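import Mathlib

/-!
# The orders of `q`, `q ^ 2` and `-q` modulo an odd prime
-/

set_option autoImplicit false

namespace Cfsg.Agent.Classical.UnitElem

variable {r : ℕ} [hr : Fact r.Prime]

theorem orderOf_neg_cases (hr2 : r ≠ 2) {x : ZMod r} (hx : x ≠ 0) :
    orderOf (-x) = (if orderOf x % 4 = 0 then orderOf x else
      if orderOf x % 4 = 2 then orderOf x / 2 else 2 * orderOf x) := by
  have h1 : orderOf (-1 : ZMod r) = 2 := by
    rw [orderOf_neg_one, ZMod.ringChar_zmod_n, if_neg hr2]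
  have hfin : IsOfFinOrder x :=
    isOfFinOrder_iff_pow_eq_one.2 ⟨r - 1, by have := hr.out.two_le; omega, ZMod.pow_card_sub_one_eq_one hx⟩
  have hpos : 0 < orderOf x := hfin.orderOf_pos
  rcases Nat.even_or_odd (orderOf x) with ⟨h, hh⟩ | hodd
  · have hxh : x ^ h = -1 := by
      have h2 : x ^ h * x ^ h = 1 := by rw [← pow_add, ← hh, pow_orderOf_eq_one]
      exact (mul_self_eq_one_iff.1 h2).resolve_left fun he => by
        have := Nat.le_of_dvd (by omega) (orderOf_dvd_of_pow_eq_one he)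
        omega
    have hneg : -x = x ^ (h + 1) := by rw [pow_succ, hxh, neg_one_mul]
    rw [hneg, orderOf_pow' x h.succ_ne_zero, hh, ← two_mul, Nat.Coprime.gcd_mul_right_cancel]
    · rcases Nat.even_or_odd h with ⟨k, hk⟩ | ⟨k, hk⟩
      · rw [Nat.Coprime.gcd_eq_one (by rw [Nat.coprime_two_left]; exact ⟨k, by omega⟩),
          if_pos (by omega), Nat.div_one]
      · rw [Nat.gcd_eq_left (show 2 ∣ h + 1 by omega), if_neg (by omega), if_pos (by omega)]
    · exact (Nat.coprime_self_add_right (m := h) (n := 1)).2 (Nat.coprime_one_right h)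
  · obtain ⟨k, hk⟩ := hodd
    rw [if_neg (by omega), if_neg (by omega), show -x = -1 * x by rw [neg_one_mul],
      (Commute.all (-1) x).orderOf_mul_eq_mul_orderOf_of_coprime
        (by rw [h1, Nat.coprime_two_left]; exact ⟨k, hk⟩), h1]

theorem orderOf_sq_cases {x : ZMod r} :
    orderOf (x ^ 2) = if Even (orderOf x) then orderOf x / 2 else orderOf x := by
  rw [orderOf_pow' x two_ne_zero]
  split_ifs with h
  · rw [Nat.gcd_eq_right h.two_dvd]
  · rw [Nat.Coprime.gcd_eq_one (Nat.coprime_two_right.2 (Nat.not_even_iff_odd.1 h)), Nat.div_one]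

/-- The two shapes of blocks. -/
theorem block_cases (hr2 : r ≠ 2) {x : ZMod r} (hx : x ≠ 0) :
    0 < orderOf (x ^ 2) ∧
      ((orderOf x % 4 = 2 ∧ Odd (orderOf (x ^ 2)) ∧ orderOf (-x) = orderOf (x ^ 2) ∧
          x ^ orderOf (x ^ 2) = -1) ∨
        (orderOf x % 4 ≠ 2 ∧ orderOf (-x) = 2 * orderOf (x ^ 2))) := by
  have hpos : 0 < orderOf x :=
    (isOfFinOrder_iff_pow_eq_one.2 ⟨r - 1, by have := hr.out.two_le; omega,
      ZMod.pow_card_sub_one_eq_one hx⟩).orderOf_pos
  rw [orderOf_sq_cases, orderOf_neg_cases hr2 hx]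
  by_cases he : Even (orderOf x)
  · rw [if_pos he]
    obtain ⟨h, hh⟩ := he
    refine ⟨by omega, ?_⟩
    by_cases h4 : orderOf x % 4 = 2
    · rw [if_neg (by omega), if_pos h4]
      refine Or.inl ⟨h4, ⟨h / 2, by omega⟩, rfl, ?_⟩
      have h2 : x ^ (orderOf x / 2) * x ^ (orderOf x / 2) = 1 := by
        rw [← pow_add, show orderOf x / 2 + orderOf x / 2 = orderOf x by omega, pow_orderOf_eq_one]
      exact (mul_self_eq_one_iff.1 h2).resolve_left fun he => by
        have := Nat.le_of_dvd (by omega) (orderOf_dvd_of_pow_eq_one he)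
        omega
    · rw [if_pos (by omega)]
      exact Or.inr ⟨h4, by omega⟩
  · rw [if_neg he]
    obtain ⟨k, hk⟩ := Nat.not_even_iff_odd.1 he
    rw [if_neg (by omega), if_neg (by omega)]
    exact ⟨hpos, Or.inr ⟨by omega, rfl⟩⟩

end Cfsg.Agent.Classical.UnitElem
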