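import Cfsg.Agent.HermPair.Inv
import Cfsg.Agent.Classical.SympElem.PrimeOrder

/-!
# Invariant subspaces of isometries of Hermitian spaces

Totally isotropic and non-degenerate subspaces, orthogonals, restriction to a non-degenerate subspace.
-/

set_option autoImplicit false

namespace Cfsg.Agent.Classical.UnitElem

open Module Polynomial
open Cfsg.Agent.Classical.Herm
open Cfsg.Agent.Classical.SympElem (Inv inv_iff inv_top inv_bot)

universe u v

variable {F : Type u} [Field F] {σ : F →+* F} {V : Type v} [AddCommGroup V] [Module F V]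
  {B : V →ₛₗ[σ] V →ₗ[F] F} {a : Module.End F V}

/-- A totally isotropic subspace. -/
def TI (B : V →ₛₗ[σ] V →ₗ[F] F) (W : Submodule F V) : Prop := ∀ u ∈ W, ∀ v ∈ W, B u v = 0

/-- A non-degenerate subspace. -/
def NDon (B : V →ₛₗ[σ] V →ₗ[F] F) (W : Submodule F V) : Prop := ∀ u ∈ W, (∀ v ∈ W, B u v = 0) → u = 0

/-- The form is preserved. -/
def Pres (B : V →ₛₗ[σ] V →ₗ[F] F) (a : Module.End F V) : Prop := ∀ u v, B (a u) (a v) = B u v

theorem ndon_iff {W : Submodule F V} : NDon B W ↔ ∀ u ∈ W, u ≠ 0 → ∃ v ∈ W, B u v ≠ 0 := by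
  refine ⟨fun h u hu hu0 => ?_, fun h u hu hz => ?_⟩
  · by_contra hc
    push Not at hc
    exact hu0 (h u hu hc)
  · by_contra hu0
    obtain ⟨v, hv, hne⟩ := h u hu hu0
    exact hne (hz v hv)

theorem ti_bot : TI B (⊥ : Submodule F V) := fun u hu v _ => by
  rw [(Submodule.mem_bot F).1 hu]; simp

theorem ndon_bot : NDon B (⊥ : Submodule F V) := fun u hu _ => (Submodule.mem_bot F).1 hu

theorem ndon_top (hB : IsHerm B) : NDon B (⊤ : Submodule F V) :=
  fun u _ h => hB.nondeg u fun y => h y Submodule.mem_top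

/-- The orthogonal subspace. -/
def orth (B : V →ₛₗ[σ] V →ₗ[F] F) (W : Submodule F V) : Submodule F V where
  carrier := {x | ∀ w ∈ W, B w x = 0}
  add_mem' := fun hx hy w hw => by rw [map_add, hx w hw, hy w hw, add_zero]
  zero_mem' := fun w _ => map_zero _
  smul_mem' := fun c x hx w hw => by rw [map_smul, hx w hw, smul_zero]

theorem mem_orth {W : Submodule F V} {x : V} : x ∈ orth B W ↔ ∀ w ∈ W, B w x = 0 := Iff.rfl

theorem le_orth_symm (hB : IsHerm B) {U W : Submodule F V} (h : U ≤ orth B W) : W ≤ orth B U :=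
  fun w hw u hu => (eq_zero_comm hB).1 (h hu w hw)

/-- The restricted form. -/
def restr (B : V →ₛₗ[σ] V →ₗ[F] F) (W : Submodule F V) : W →ₛₗ[σ] W →ₗ[F] F :=
  LinearMap.mk₂'ₛₗ σ (RingHom.id F) (fun u v => B (u : V) (v : V))
    (fun u u' v => by simp) (fun c u v => by simp) (fun u v v' => by simp) (fun c u v => by simp)

theorem restr_apply (W : Submodule F V) (u v : W) : restr B W u v = B (u : V) (v : V) := rfl

theorem isHerm_restr (hB : IsHerm B) {W : Submodule F V} (hN : NDon B W) : IsHerm (restr B W) :=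
  { toIsInvol := hB.toIsInvol
    symm := fun x y => hB.symm _ _
    nondeg := fun x hx => Subtype.ext (hN x x.2 fun v hv => hx ⟨v, hv⟩) }

theorem pres_restrict (hP : Pres B a) {W : Submodule F V} (hW : Inv a W) :
    Pres (restr B W) (a.restrict hW) := fun _ _ => hP _ _

theorem Pres.injective (hB : IsHerm B) (hP : Pres B a) : Function.Injective a :=
  (injective_iff_map_eq_zero a).2 fun x hx => hB.nondeg x fun y => by
    rw [← hP, hx, map_zero, LinearMap.zero_apply]

theorem ti_sup (hB : IsHerm B) {U W : Submodule F V} (hU : TI B U) (hW : TI B W) (h : U ≤ orth B W) :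
    TI B (U ⊔ W) := by
  intro x hx y hy
  obtain ⟨x1, hx1, x2, hx2, rfl⟩ := Submodule.mem_sup.1 hx
  obtain ⟨y1, hy1, y2, hy2, rfl⟩ := Submodule.mem_sup.1 hy
  simp [hU x1 hx1 y1 hy1, hW x2 hx2 y2 hy2, h hy1 x2 hx2, (eq_zero_comm hB).1 (h hx1 y2 hy2)]

theorem disjoint_of_orth {U W : Submodule F V} (hU : NDon B U) (hB : IsHerm B) (h : U ≤ orth B W) :
    Disjoint U W := by
  rw [Submodule.disjoint_def]
  exact fun x hxU hxW => hU x hxU fun v hv => h hv x hxW

theorem ndon_sup (hB : IsHerm B) {U W : Submodule F V} (hU : NDon B U) (hW : NDon B W) (h : U ≤ orth B W) :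
    NDon B (U ⊔ W) := by
  intro x hx hx0
  obtain ⟨x1, hx1, x2, hx2, rfl⟩ := Submodule.mem_sup.1 hx
  have e1 : x1 = 0 := hU x1 hx1 fun v hv => by
    have := hx0 v (Submodule.mem_sup_left hv)
    rwa [map_add, LinearMap.add_apply, h hv x2 hx2, add_zero] at this
  have e2 : x2 = 0 := hW x2 hx2 fun v hv => by
    have := hx0 v (Submodule.mem_sup_right hv)
    rwa [e1, zero_add] at this
  rw [e1, e2, add_zero]

/-! ### Lifting from a subspace -/

theorem inv_lift {P : Submodule F V} {hP : Inv a P} {W : Submodule F P} (hW : Inv (a.restrict hP) W) :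
    Inv a (W.map P.subtype) := by
  rintro _ ⟨w, hw, rfl⟩
  exact ⟨_, hW w hw, rfl⟩

theorem ti_lift {P : Submodule F V} {W : Submodule F P} (hW : TI (restr B P) W) : TI B (W.map P.subtype) := by
  rintro _ ⟨u, hu, rfl⟩ _ ⟨v, hv, rfl⟩
  exact hW u hu v hv

theorem ndon_lift {P : Submodule F V} {W : Submodule F P} (hW : NDon (restr B P) W) :
    NDon B (W.map P.subtype) := by
  rintro _ ⟨u, hu, rfl⟩ h
  have := hW u hu fun v hv => h _ ⟨v, hv, rfl⟩
  simp [this]

theorem finrank_lift {P : Submodule F V} (W : Submodule F P) : finrank F (W.map P.subtype) = finrank F W :=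
  (Submodule.equivMapOfInjective P.subtype P.injective_subtype W).finrank_eq.symm

theorem lift_le {P : Submodule F V} (W : Submodule F P) : W.map P.subtype ≤ P := Submodule.map_subtype_le P W

/-! ### Finite fields -/

variable [Fintype F] [FiniteDimensional F V]

theorem isCompl_orth (hB : IsHerm B) {W : Submodule F V} (hN : NDon B W) : IsCompl W (orth B W) := by
  refine ⟨Submodule.disjoint_def.2 fun x hx hx' => hN x hx fun v hv => (eq_zero_comm hB).1 (hx' v hv),
    codisjoint_iff.2 (Submodule.eq_top_iff'.2 fun v => ?_)⟩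
  obtain ⟨w, hw⟩ := exists_repr (isHerm_restr hB hN) ((B v).comp W.subtype)
  rw [← add_sub_cancel (w : V) v]
  refine Submodule.add_mem_sup w.2 fun x hx => ?_
  have := hw ⟨x, hx⟩
  rw [restr_apply] at this
  rw [eq_zero_comm hB, map_sub, LinearMap.sub_apply, this]
  exact sub_self _

theorem finrank_orth_add (hB : IsHerm B) {W : Submodule F V} (hN : NDon B W) :
    finrank F W + finrank F (orth B W) = finrank F V :=
  Submodule.finrank_add_eq_of_isCompl (isCompl_orth hB hN)

theorem ndon_orth (hB : IsHerm B) {W : Submodule F V} (hN : NDon B W) : NDon B (orth B W) := by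
  intro x hx h
  refine hB.nondeg x fun y => ?_
  obtain ⟨w, hw, z, hz, rfl⟩ := Submodule.mem_sup.1
    (show y ∈ W ⊔ orth B W by rw [(isCompl_orth hB hN).sup_eq_top]; trivial)
  rw [map_add, (eq_zero_comm hB).1 (hx w hw), h z hz, add_zero]

theorem inv_orth (hB : IsHerm B) (hP : Pres B a) {W : Submodule F V} (hW : Inv a W) : Inv a (orth B W) := by
  intro x hx w hw
  have hinj : Function.Injective (a.restrict hW) := fun u v h =>
    Subtype.ext (hP.injective hB (congrArg Subtype.val h))
  obtain ⟨w', hw'⟩ := LinearMap.surjective_of_injective hinj ⟨w, hw⟩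
  rw [show w = a (w' : V) from (congrArg Subtype.val hw').symm, hP]
  exact hx w' w'.2

theorem two_mul_le_of_ti (hB : IsHerm B) {U W : Submodule F V} (hU : NDon B U) (hle : W ≤ U) (hW : TI B W) :
    2 * finrank F W ≤ finrank F U := by
  obtain ⟨C, hC⟩ := Submodule.exists_isCompl (W.comap U.subtype)
  have h1 := HermPair.finrank_le_of_iso (isHerm_restr hB hU) (U := C) (W := W.comap U.subtype)
    (fun x hx y hy => hW _ hx _ hy) hC.symm
  have h2 := Submodule.finrank_add_eq_of_isCompl hC
  rw [(Submodule.comapSubtypeEquivOfLe hle).finrank_eq] at h1 h2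
  omega

theorem exists_nd_le (hB : IsHerm B) {U : Submodule F V} (hU : NDon B U) {k : ℕ} (hk : k ≤ finrank F U) :
    ∃ W : Submodule F V, W ≤ U ∧ NDon B W ∧ finrank F W = k := by
  obtain ⟨e, he⟩ := exists_orthonormal (isHerm_restr hB hU)
  let v : Fin k → V := fun i => (e (Fin.castLE hk i) : V)
  have hv : IsON B v := fun i j => by
    have := he (Fin.castLE hk i) (Fin.castLE hk j)
    rw [restr_apply] at this
    simp [v, this]
  refine ⟨Submodule.span F (Set.range v), Submodule.span_le.2 (by rintro _ ⟨i, rfl⟩; exact Submodule.coe_mem _),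
    fun u hu h => ?_, by rw [finrank_span_eq_card (hv.linearIndependent hB), Fintype.card_fin]⟩
  obtain ⟨c, rfl⟩ := (Submodule.mem_span_range_iff_exists_fun F).1 hu
  refine Finset.sum_eq_zero fun i _ => ?_
  have h1 := (eq_zero_comm hB).1 (h (v i) (Submodule.subset_span ⟨i, rfl⟩))
  simp [map_sum, hv i] at h1
  rw [h1, zero_smul]

theorem exists_ti_le (hB : IsHerm B) {U : Submodule F V} (hU : NDon B U) {k : ℕ} (hk : 2 * k ≤ finrank F U) :
    ∃ W : Submodule F V, W ≤ U ∧ TI B W ∧ finrank F W = k := by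
  obtain ⟨e, he⟩ := exists_orthonormal (isHerm_restr hB hU)
  obtain ⟨c, hc⟩ := exists_norm hB.toIsInvol (a := (-1 : F)) (by rw [map_neg, map_one])
  let A : Fin k → Fin (finrank F U) := fun i => ⟨2 * (i : ℕ), by have := i.2; omega⟩
  let A' : Fin k → Fin (finrank F U) := fun i => ⟨2 * (i : ℕ) + 1, by have := i.2; omega⟩
  let v : Fin k → V := fun i => (e (A i) : V) + c • (e (A' i) : V)
  have hval : ∀ i j, B (e i : V) (e j : V) = if i = j then 1 else 0 := fun i j => he i j
  have hAA : ∀ i j, A i ≠ A' j := fun i j h => by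
    simp [A, A', Fin.ext_iff] at h
    omega
  have hAi : ∀ i j, A i = A j ↔ i = j := fun i j => by simp [A, Fin.ext_iff]
  have hAi' : ∀ i j, A' i = A' j ↔ i = j := fun i j => by simp [A', Fin.ext_iff]
  have hproj : ∀ i j, B (e (A i) : V) (v j) = if i = j then 1 else 0 := fun i j => by
    simp [v, hval, hAA, hAi]
  have hproj' : ∀ i j, B (e (A' i) : V) (v j) = if i = j then c else 0 := fun i j => by
    simp [v, hval, (hAA _ _).symm, hAi']
  have hvv : ∀ i j, B (v i) (v j) = 0 := fun i j => by
    have hl : ∀ (x x' y : V), B (x + c • x') y = B x y + σ c * B x' y := fun x x' y => by simp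
    rw [show B (v i) (v j) = B (e (A i) : V) (v j) + σ c * B (e (A' i) : V) (v j) from hl _ _ _, hproj, hproj']
    by_cases h : i = j
    · rw [if_pos h, if_pos h]; linear_combination hc
    · rw [if_neg h, if_neg h]; simp
  have hli : LinearIndependent F v := Fintype.linearIndependent_iff.2 fun g hg i => by
    have := congrArg (B (e (A i) : V)) hg
    simpa [map_sum, hproj] using this
  refine ⟨Submodule.span F (Set.range v), Submodule.span_le.2 ?_, fun x hx y hy => ?_,
    by rw [finrank_span_eq_card hli, Fintype.card_fin]⟩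
  · rintro _ ⟨i, rfl⟩
    exact U.add_mem (Submodule.coe_mem _) (U.smul_mem _ (Submodule.coe_mem _))
  · obtain ⟨f, rfl⟩ := (Submodule.mem_span_range_iff_exists_fun F).1 hx
    obtain ⟨g, rfl⟩ := (Submodule.mem_span_range_iff_exists_fun F).1 hy
    simp [map_sum, hvv]

end Cfsg.Agent.Classical.UnitElem
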