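import Cfsg.Agent.Classical.UnitElem.Basic
import Cfsg.Agent.Classical.HermStab
import Cfsg.Agent.Classical.Elusive.Count

/-!
# Primes dividing the numbers of totally isotropic and non-degenerate subspaces
-/

set_option autoImplicit false

namespace Cfsg.Agent.Classical.UnitElem

open Module
open Cfsg.Agent.Classical (hermB hermB_isHerm card_frames card_herm_one)
open Cfsg.Agent.Classical.Herm
open Cfsg.Agent.Classical.Elusive (topProd prod_pow_sub)
open Cfsg.Agent.Classical.HermStab (fac isoCount card_herm_frames)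

universe u

variable {F : Type u} [Field F] [Fintype F] {σ : F →+* F} {q n m r : ℕ}

theorem fac_cond [Fact r.Prime] (hq : 1 < q) {l : ℕ} (h : r ∣ fac q l) :
    ¬ r ∣ q ∧ (-(q : ZMod r)) ^ (l + 1) = 1 := by
  have hr := (Fact.out : r.Prime)
  have h1 : 1 ≤ q ^ (l + 1) := Nat.one_le_pow _ _ (by omega)
  unfold fac at h
  refine ⟨fun hd => ?_, ?_⟩
  · have hp : r ∣ q ^ (l + 1) := hd.trans (dvd_pow_self _ l.succ_ne_zero)
    split_ifs at h
    · exact hr.not_dvd_one ((Nat.dvd_add_right hp).1 h)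
    · have := Nat.dvd_sub hp h
      rw [show q ^ (l + 1) - (q ^ (l + 1) - 1) = 1 by omega] at this
      exact hr.not_dvd_one this
  · split_ifs at h with he
    · have e : (q : ZMod r) ^ (l + 1) + 1 = 0 := by
        exact_mod_cast (ZMod.natCast_eq_zero_iff (q ^ (l + 1) + 1) r).2 h
      rw [(Even.add_one he).neg_pow]
      linear_combination -e
    · have e : ((q ^ (l + 1) - 1 : ℕ) : ZMod r) = 0 := (ZMod.natCast_eq_zero_iff _ _).2 h
      rw [Nat.cast_sub h1, Nat.cast_pow, Nat.cast_one, sub_eq_zero] at e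
      rw [(Odd.add_one (Nat.not_even_iff_odd.1 he)).neg_pow, e]

theorem card_ti_mul (hσ : IsInvol σ) (hq : Nat.card (fixField σ) = q) (hmn : 2 * m ≤ n) :
    Nat.card {W : Submodule F (Fin n → F) // finrank F W = m ∧ TI (hermB n σ) W} * topProd (q ^ 2) m m =
      ∏ i ∈ Finset.range m, isoCount q (n - 2 * i) := by
  classical
  have hQ : Fintype.card F = q ^ 2 := by rw [← hq, ← card_eq_fix_sq hσ, Nat.card_eq_fintype_card]
  have hq0 : 0 < q := hq ▸ Nat.card_pos
  set V := Fin n → F
  haveI : Fintype {W : Submodule F V // finrank F W = m ∧ TI (hermB n σ) W} := Fintype.ofFinite _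
  let R : V → V → Prop := fun u w => hermB n σ u w = 0
  let f : (Σ W : {W : Submodule F V // finrank F W = m ∧ TI (hermB n σ) W},
      {t : Fin m → W.1 // LinearIndependent F t}) → IsoStab.Frames F R m :=
    fun x => ⟨fun i => (x.2.1 i : V), x.2.2.map' x.1.1.subtype (Submodule.ker_subtype _),
      fun i j => x.1.2.2 _ (x.2.1 i).2 _ (x.2.1 j).2⟩
  have hspan : ∀ x, Submodule.span F (Set.range (f x).1) = x.1.1 := by
    intro x
    refine Submodule.eq_of_le_of_finrank_le (Submodule.span_le.2 ?_) ?_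
    · rintro _ ⟨i, rfl⟩
      exact (x.2.1 i).2
    · rw [finrank_span_eq_card (f x).2.1, Fintype.card_fin, x.1.2.1]
  have hti : ∀ s : IsoStab.Frames F R m, TI (hermB n σ) (Submodule.span F (Set.range s.1)) := by
    intro s u hu v hv
    obtain ⟨cu, rfl⟩ := (Submodule.mem_span_range_iff_exists_fun F).1 hu
    obtain ⟨cv, rfl⟩ := (Submodule.mem_span_range_iff_exists_fun F).1 hv
    have h2 : ∀ i j, hermB n σ (s.1 i) (s.1 j) = 0 := s.2.2
    simp [map_sum, h2]
  have hbij : Function.Bijective f := by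
    refine ⟨fun x y h => ?_, fun s => ?_⟩
    · have hW : x.1 = y.1 := Subtype.ext (by rw [← hspan x, ← hspan y, h])
      obtain ⟨W, t⟩ := x
      obtain ⟨W', t'⟩ := y
      simp only at hW
      subst hW
      refine Sigma.ext rfl (heq_of_eq (Subtype.ext (funext fun i => Subtype.ext ?_)))
      exact congrFun (congrArg Subtype.val h) i
    · refine ⟨⟨⟨Submodule.span F (Set.range s.1),
        by rw [finrank_span_eq_card s.2.1, Fintype.card_fin], hti s⟩,
        ⟨fun i => ⟨s.1 i, Submodule.subset_span ⟨i, rfl⟩⟩, ?_⟩⟩, rfl⟩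
      exact LinearIndependent.of_comp (Submodule.subtype _) s.2.1
  have h := Nat.card_congr (Equiv.ofBijective f hbij)
  rw [card_herm_frames hσ hq n hmn, Nat.card_sigma,
    Finset.sum_congr rfl fun W _ => ?_, Finset.sum_const, Finset.card_univ, ← Nat.card_eq_fintype_card,
    smul_eq_mul] at h
  pick_goal 2
  · exact (card_linearIndependent (K := F) (V := W.1) W.2.1.ge).trans (by rw [W.2.1, prod_pow_sub _ le_rfl])
  rw [hQ, Finset.prod_mul_distrib, Finset.prod_congr rfl fun i _ => (pow_mul q 2 i).symm] at h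
  refine Nat.eq_of_mul_eq_mul_left (Finset.prod_pos fun i _ => pow_pos hq0 (2 * i) :
    0 < ∏ i ∈ Finset.range m, q ^ (2 * i)) ?_
  rw [← h]
  ring

theorem card_nd_mul (hσ : IsInvol σ) (hq : Nat.card (fixField σ) = q) (hmn : m ≤ n) :
    ∃ k, Nat.card {W : Submodule F (Fin n → F) // finrank F W = m ∧ NDon (hermB n σ) W} * k =
      ∏ j ∈ Finset.range m, Nat.card {v : Fin (n - j) → F // hermB (n - j) σ v v = 1} := by
  classical
  set V := Fin n → F
  have hB := hermB_isHerm hσ n
  haveI : Fintype {W : Submodule F V // finrank F W = m ∧ NDon (hermB n σ) W} := Fintype.ofFinite _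
  refine ⟨Nat.card {a : Fin m → Fin m → F // IsON (hermB m σ) a}, ?_⟩
  let f : (Σ W : {W : Submodule F V // finrank F W = m ∧ NDon (hermB n σ) W},
      {t : Fin m → W.1 // IsON (restr (hermB n σ) W.1) t}) → {a : Fin m → V // IsON (hermB n σ) a} :=
    fun x => ⟨fun i => (x.2.1 i : V), fun i j => x.2.2 i j⟩
  have hspan : ∀ x, Submodule.span F (Set.range (f x).1) = x.1.1 := by
    intro x
    refine Submodule.eq_of_le_of_finrank_le (Submodule.span_le.2 ?_) ?_
    · rintro _ ⟨i, rfl⟩
      exact (x.2.1 i).2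
    · rw [finrank_span_eq_card ((f x).2.linearIndependent hB), Fintype.card_fin, x.1.2.1]
  have hnd : ∀ s : {a : Fin m → V // IsON (hermB n σ) a},
      NDon (hermB n σ) (Submodule.span F (Set.range s.1)) := by
    intro s u hu h
    obtain ⟨c, rfl⟩ := (Submodule.mem_span_range_iff_exists_fun F).1 hu
    refine Finset.sum_eq_zero fun i _ => ?_
    have h1 := (eq_zero_comm hB).1 (h (s.1 i) (Submodule.subset_span ⟨i, rfl⟩))
    simp [map_sum, s.2 i] at h1
    rw [h1, zero_smul]
  have hbij : Function.Bijective f := by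
    refine ⟨fun x y h => ?_, fun s => ?_⟩
    · have hW : x.1 = y.1 := Subtype.ext (by rw [← hspan x, ← hspan y, h])
      obtain ⟨W, t⟩ := x
      obtain ⟨W', t'⟩ := y
      simp only at hW
      subst hW
      refine Sigma.ext rfl (heq_of_eq (Subtype.ext (funext fun i => Subtype.ext ?_)))
      exact congrFun (congrArg Subtype.val h) i
    · exact ⟨⟨⟨Submodule.span F (Set.range s.1),
        by rw [finrank_span_eq_card (s.2.linearIndependent hB), Fintype.card_fin], hnd s⟩,
        ⟨fun i => ⟨s.1 i, Submodule.subset_span ⟨i, rfl⟩⟩, fun i j => s.2 i j⟩⟩, rfl⟩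
  have hfib : ∀ W : {W : Submodule F V // finrank F W = m ∧ NDon (hermB n σ) W},
      Nat.card {t : Fin m → W.1 // IsON (restr (hermB n σ) W.1) t} =
        Nat.card {a : Fin m → Fin m → F // IsON (hermB m σ) a} := by
    rintro ⟨W, hWm, hWn⟩
    subst hWm
    obtain ⟨b, hb⟩ := exists_orthonormal (isHerm_restr hB hWn)
    have he : ∀ u v, hermB (finrank F W) σ (b.equivFun u) (b.equivFun v) = restr (hermB n σ) W u v := fun u v => by
      have e : ∀ f g : Fin (finrank F W) → F,
          restr (hermB n σ) W (∑ i, f i • b i) (∑ i, g i • b i) = ∑ i, σ (f i) * g i := fun f g => by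
        simp [map_sum, hb _ _, mul_comm]
      have := e (b.equivFun u) (b.equivFun v)
      rw [b.sum_equivFun, b.sum_equivFun] at this
      rw [Cfsg.Agent.Classical.hermB_apply, this]
    exact Nat.card_congr ((Equiv.arrowCongr (Equiv.refl _) b.equivFun.toEquiv).subtypeEquiv fun t => by
      show (∀ i j, restr (hermB n σ) W (t i) (t j) = if i = j then 1 else 0) ↔
        ∀ i j, hermB _ σ (b.equivFun (t i)) (b.equivFun (t j)) = if i = j then 1 else 0
      exact ⟨fun h i j => (he _ _).trans (h i j), fun h i j => (he _ _).symm.trans (h i j)⟩)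
  have h := Nat.card_congr (Equiv.ofBijective f hbij)
  rw [Nat.card_sigma, Finset.sum_congr rfl fun W _ => hfib W, Finset.sum_const, Finset.card_univ,
    ← Nat.card_eq_fintype_card, smul_eq_mul] at h
  rw [h, card_frames hσ hq n m hmn]

/-- Divisors of the number of totally isotropic subspaces. -/
theorem of_dvd_ti [Fact r.Prime] (hσ : IsInvol σ) (hq : Nat.card (fixField σ) = q) (hmn : 2 * m ≤ n)
    (h : r ∣ Nat.card {W : Submodule F (Fin n → F) // finrank F W = m ∧ TI (hermB n σ) W}) :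
    ¬ r ∣ q ∧ ∃ j, n - 2 * m < j ∧ j ≤ n ∧ (-(q : ZMod r)) ^ j = 1 := by
  have hq1 : 1 < q := hq ▸ Finite.one_lt_card
  have h1 := h.trans (dvd_mul_right _ (topProd (q ^ 2) m m))
  rw [card_ti_mul hσ hq hmn] at h1
  obtain ⟨i, hi, hi'⟩ := ((Fact.out : r.Prime).prime.dvd_finsetProd_iff _).1 h1
  have := Finset.mem_range.1 hi
  rcases (Fact.out : r.Prime).dvd_mul.1 hi' with h2 | h2
  · obtain ⟨h3, h4⟩ := fac_cond hq1 h2
    exact ⟨h3, n - 2 * i - 1 + 1, by omega, by omega, h4⟩
  · obtain ⟨h3, h4⟩ := fac_cond hq1 h2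
    exact ⟨h3, n - 2 * i - 2 + 1, by omega, by omega, h4⟩

/-- Divisors of the number of non-degenerate subspaces. -/
theorem of_dvd_nd [Fact r.Prime] (hσ : IsInvol σ) (hq : Nat.card (fixField σ) = q) (hmn : m ≤ n)
    (h : r ∣ Nat.card {W : Submodule F (Fin n → F) // finrank F W = m ∧ NDon (hermB n σ) W})
    (hrq : ¬ r ∣ q) : ∃ j, n - m < j ∧ j ≤ n ∧ (-(q : ZMod r)) ^ j = 1 := by
  have hq1 : 1 < q := hq ▸ Finite.one_lt_card
  obtain ⟨k, hk⟩ := card_nd_mul hσ hq hmn
  have h1 := h.trans (dvd_mul_right _ k)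
  rw [hk] at h1
  obtain ⟨j, hj, hj'⟩ := ((Fact.out : r.Prime).prime.dvd_finsetProd_iff _).1 h1
  have := Finset.mem_range.1 hj
  rw [card_herm_one hσ hq, HermPair.dvd_factor_iff hq1 hrq] at hj'
  exact ⟨n - j, by omega, Nat.sub_le _ _, hj'⟩

end Cfsg.Agent.Classical.UnitElem
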