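import Cfsg.Agent.Classical.UnitElem.Witness
import Cfsg.Agent.Classical.UnitElem.Count

/-!
# Passing between `SU_n` and abstract Hermitian spaces; scalar normalisation; the prime two
-/

set_option autoImplicit false

namespace Cfsg.Agent.Classical.UnitElem

open Module Polynomial
open Cfsg.Agent.Classical (hermB hermB_isHerm hermForm_eq mem_SU_iff)
open Cfsg.Agent.Classical.Herm
open Cfsg.Agent.Classical.SympElem (Inv inv_iff inv_top inv_bot fx mv fx_apply mem_fx inv_fx inv_mv inv_of_le_fx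
  sum_pow_apply_fixed)

universe u v

variable {F : Type u} [Field F] [Fintype F] {σ : F →+* F} {q n r : ℕ}

/-- Some invariant totally isotropic subspace has dimension `m`. -/
def HasTI {V : Type v} [AddCommGroup V] [Module F V] (B : V →ₛₗ[σ] V →ₗ[F] F) (a : Module.End F V) (m : ℕ) : Prop :=
  ∃ W : Submodule F V, Inv a W ∧ TI B W ∧ finrank F W = m

/-- Some invariant non-degenerate subspace has dimension `m`. -/
def HasND {V : Type v} [AddCommGroup V] [Module F V] (B : V →ₛₗ[σ] V →ₗ[F] F) (a : Module.End F V) (m : ℕ) : Prop :=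
  ∃ W : Submodule F V, Inv a W ∧ NDon B W ∧ finrank F W = m

omit [Fintype F] in
theorem ti_iff (hσ : IsInvol σ) (hσq : ∀ x, σ x = x ^ q) (W : Submodule F (Fin n → F)) :
    (∀ u ∈ W, ∀ v ∈ W, Cfsg.hermForm n F q u v = 0) ↔ TI (hermB n σ) W := by
  simp only [hermForm_eq hσq]
  exact ⟨fun h u hu v hv => h v hv u hu, fun h u hu v hv => h v hv u hu⟩

omit [Fintype F] in
theorem nd_iff (hσ : IsInvol σ) (hσq : ∀ x, σ x = x ^ q) (W : Submodule F (Fin n → F)) :
    (∀ u ∈ W, u ≠ 0 → ∃ v ∈ W, Cfsg.hermForm n F q u v ≠ 0) ↔ NDon (hermB n σ) W := by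
  rw [ndon_iff]
  simp only [hermForm_eq hσq, ne_eq, eq_zero_comm (hermB_isHerm hσ n) (y := _)]

theorem card_ti_eq (hσ : IsInvol σ) (hσq : ∀ x, σ x = x ^ q) (m : ℕ) :
    Nat.card {W : Submodule F (Fin n → F) // finrank F W = m ∧ ∀ u ∈ W, ∀ v ∈ W, Cfsg.hermForm n F q u v = 0} =
      Nat.card {W : Submodule F (Fin n → F) // finrank F W = m ∧ TI (hermB n σ) W} :=
  Nat.card_congr (Equiv.subtypeEquivRight fun W => by rw [ti_iff hσ hσq])

theorem card_nd_eq (hσ : IsInvol σ) (hσq : ∀ x, σ x = x ^ q) (m : ℕ) :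
    Nat.card {W : Submodule F (Fin n → F) // finrank F W = m ∧
        ∀ u ∈ W, u ≠ 0 → ∃ v ∈ W, Cfsg.hermForm n F q u v ≠ 0} =
      Nat.card {W : Submodule F (Fin n → F) // finrank F W = m ∧ NDon (hermB n σ) W} :=
  Nat.card_congr (Equiv.subtypeEquivRight fun W => by rw [nd_iff hσ hσq])

/-- What an element of `SU_n` provides. -/
theorem of_mem (hσq : ∀ x, σ x = x ^ q) {x : Matrix.SpecialLinearGroup (Fin n) F} (hx : x ∈ Cfsg.SU n F q) {z : F}
    (hz : ((x ^ r : Matrix.SpecialLinearGroup (Fin n) F) : Matrix (Fin n) (Fin n) F) = z • 1) :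
    Pres (hermB n σ) (Matrix.toLin' (x : Matrix (Fin n) (Fin n) F)) ∧
      (Matrix.toLin' (x : Matrix (Fin n) (Fin n) F) : Module.End F (Fin n → F)) ^ r = z • 1 ∧
      LinearMap.det (Matrix.toLin' (x : Matrix (Fin n) (Fin n) F)) = 1 := by
  refine ⟨fun u v => ?_, ?_, ?_⟩
  · rw [Matrix.toLin'_apply, Matrix.toLin'_apply]
    exact (mem_SU_iff hσq x).1 hx u v
  · rw [← Matrix.toLin'_pow, ← Matrix.SpecialLinearGroup.coe_pow, hz, map_smul, Matrix.toLin'_one]
    rfl
  · rw [LinearMap.det_toLin']; exact x.2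

omit [Fintype F] in
theorem not_scalar_toLin' {x : Matrix (Fin n) (Fin n) F} (h : ∀ z : F, x ≠ z • 1) (z : F) :
    (Matrix.toLin' x : Module.End F (Fin n → F)) ≠ z • 1 := fun he => h z (Matrix.toLin'.injective (by
  rw [he, map_smul, Matrix.toLin'_one]; rfl))

/-- Pulling the conclusion back to an abstract space. -/
theorem Datum.pull (hσq : ∀ x, σ x = x ^ q) (D : Datum F σ n r)
    {P : Submodule F (Fin n → F) → Prop}
    (H : ∀ x : Matrix.SpecialLinearGroup (Fin n) F, x ∈ Cfsg.SU n F q →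
      (∃ z : F, ((x ^ r : Matrix.SpecialLinearGroup (Fin n) F) : Matrix (Fin n) (Fin n) F) = z • 1) →
      (∀ z : F, (x : Matrix (Fin n) (Fin n) F) ≠ z • 1) →
      ∃ W : Submodule F (Fin n → F), P W ∧ W.map (Matrix.toLin' (x : Matrix (Fin n) (Fin n) F)) ≤ W) :
    ∃ (e : D.V ≃ₗ[F] (Fin n → F)) (W : Submodule F (Fin n → F)), P W ∧
      (∀ u v, hermB n σ (e u) (e v) = D.B u v) ∧ Inv D.a (W.comap e.toLinearMap) ∧
      finrank F (W.comap e.toLinearMap) = finrank F W := by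
  obtain ⟨x, hx, hxr, hxs, e, he, hW⟩ := exists_su hσq D.herm D.pres D.dim D.det D.pow D.nonscalar
  obtain ⟨W, hP, hWx⟩ := H x hx ⟨D.z, hxr⟩ hxs
  refine ⟨e, W, hP, he, hW W hWx, ?_⟩
  exact (LinearEquiv.ofSubmodule' e W).finrank_eq

omit [Fintype F] in
theorem smul_inv_props {V : Type v} [AddCommGroup V] [Module F V] {B : V →ₛₗ[σ] V →ₗ[F] F} {a : Module.End F V}
    (hP : Pres B a) {z w : F} (har : a ^ r = z • 1) (hwr : w ^ r = z) (hw0 : w ≠ 0) :
    (∀ u v, B ((w⁻¹ • a) u) ((w⁻¹ • a) v) = (w * σ w)⁻¹ * B u v) ∧ (w⁻¹ • a) ^ r = 1 ∧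
      ∀ W : Submodule F V, Inv (w⁻¹ • a) W → Inv a W := by
  refine ⟨fun u v => ?_, ?_, fun W hW x hx => ?_⟩
  · simp only [LinearMap.smul_apply, map_smulₛₗ, smul_eq_mul, RingHom.id_apply, hP u v, map_inv₀]
    rw [mul_inv]
    ring
  · rw [_root_.smul_pow, har, smul_smul, inv_pow, hwr, inv_mul_cancel₀, one_smul]
    rw [← hwr]
    exact pow_ne_zero _ hw0
  · have := W.smul_mem w (hW x hx)
    rwa [LinearMap.smul_apply, smul_smul, mul_inv_cancel₀ hw0, one_smul] at this

omit [Fintype F] in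
theorem scalar_norm {V : Type v} [AddCommGroup V] [Module F V] {B : V →ₛₗ[σ] V →ₗ[F] F} (hσq : ∀ x, σ x = x ^ q)
    (hB : IsHerm B) {a : Module.End F V} (hP : Pres B a) {z : F} (har : a ^ r = z • 1) {v : V} (hv : v ≠ 0) :
    z ^ (q + 1) = 1 := by
  have hk : ∀ (k : ℕ) x y, B ((a ^ k) x) ((a ^ k) y) = B x y := by
    intro k
    induction k with
    | zero => intro x y; rfl
    | succ k ih => intro x y; rw [pow_succ', Module.End.mul_apply, Module.End.mul_apply, hP, ih]
  obtain ⟨w, -, hw⟩ := ndon_iff.1 (ndon_top hB) v Submodule.mem_top hv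
  have := hk r v w
  rw [har] at this
  simp only [LinearMap.smul_apply, Module.End.one_apply, map_smulₛₗ, smul_eq_mul, RingHom.id_apply] at this
  have h : σ z * z = 1 := mul_right_cancel₀ hw (by linear_combination this)
  rwa [hσq, ← pow_succ] at h

theorem exists_ne_zero {V : Type v} [AddCommGroup V] [Module F V] [FiniteDimensional F V] (h : 0 < finrank F V) :
    ∃ v : V, v ≠ 0 := by
  haveI := Module.nontrivial_of_finrank_pos h
  exact exists_ne 0

/-- Either a normalised element of order `r`, or an irreducible `X ^ r - z`. -/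
theorem normalise [Fact r.Prime] {p : ℕ} [Fact p.Prime] [CharP F p] (hσ : IsInvol σ) (hF : Fintype.card F = q ^ 2)
    (hσq : ∀ x, σ x = x ^ q) (hr2 : r = p ∨ r ≠ 2) {V : Type v} [AddCommGroup V] [Module F V]
    [FiniteDimensional F V] {B : V →ₛₗ[σ] V →ₗ[F] F} (hB : IsHerm B) {a : Module.End F V} (hP : Pres B a) {z : F}
    (har : a ^ r = z • 1) (hd : 0 < finrank F V) :
    (∃ b : Module.End F V, Pres B b ∧ b ^ r = 1 ∧ ∀ W : Submodule F V, Inv b W → Inv a W) ∨
      (r ∣ q + 1 ∧ r ≠ 2 ∧ z ^ (q + 1) = 1 ∧ ∀ w : F, w ^ r ≠ z) := by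
  obtain ⟨v, hv⟩ := exists_ne_zero (F := F) hd
  have hz := scalar_norm hσq hB hP har hv
  have hq1 : 1 < q := by
    have h1 : 1 < q ^ 2 := hF ▸ Fintype.one_lt_card
    exact lt_of_pow_lt_pow_left₀ 2 (Nat.zero_le _) (by simpa using h1)
  have hr := (Fact.out : r.Prime)
  suffices hgoal : (∃ w : F, w ^ r = z ∧ w ^ (q + 1) = 1) ∨ (r ∣ q + 1 ∧ r ≠ 2 ∧ ∀ w : F, w ^ r ≠ z) by
    rcases hgoal with ⟨w, hwr, hwq⟩ | ⟨h1, h2, h3⟩
    · have hw0 : w ≠ 0 := fun h0 => by rw [h0, zero_pow (by omega)] at hwq; exact zero_ne_one hwq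
      obtain ⟨h1, h2, h3⟩ := smul_inv_props hP har hwr hw0
      refine Or.inl ⟨_, fun u v => ?_, h2, h3⟩
      rw [h1, hσq, mul_comm w, ← pow_succ, hwq, inv_one, one_mul]
    · exact Or.inr ⟨h1, h2, hz, h3⟩
  by_cases hrq : r ∣ q + 1
  · have hr2' : r ≠ 2 := hr2.elim (fun hrp => by
      intro h2
      subst hrp
      obtain ⟨k, hpp, hk⟩ := FiniteField.card F r
      have h3 : r ∣ q ^ 2 := by rw [← hF, hk]; exact dvd_pow_self r k.ne_zero
      have := Nat.dvd_sub hrq (hr.dvd_of_dvd_pow h3)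
      rw [Nat.add_sub_cancel_left] at this
      exact hr.not_dvd_one this) id
    by_cases hw : ∃ w : F, w ^ r = z
    · obtain ⟨w, hw⟩ := hw
      refine Or.inl ⟨w, hw, ?_⟩
      have hw0 : w ≠ 0 := fun h0 => by
        rw [← hw, h0, zero_pow hr.ne_zero, zero_pow (by omega)] at hz
        exact zero_ne_one hz
      have h1 : (w ^ (q + 1)) ^ r = 1 := by rw [← pow_mul, mul_comm, pow_mul, hw, hz]
      have h2 : (w ^ (q + 1)) ^ (q - 1) = 1 := by
        rw [← pow_mul, show (q + 1) * (q - 1) = Fintype.card F - 1 by rw [hF, ← Nat.sq_sub_sq, one_pow]]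
        exact FiniteField.pow_card_sub_one_eq_one w hw0
      have hco : Nat.Coprime r (q - 1) := hr.coprime_iff_not_dvd.2 fun hd' => by
        have := Nat.dvd_sub hrq hd'
        rw [show q + 1 - (q - 1) = 2 by omega] at this
        exact hr2' ((Nat.prime_dvd_prime_iff_eq hr Nat.prime_two).1 this)
      have := (pow_gcd_eq_one (a := w ^ (q + 1)) (m := r) (n := q - 1)).2 ⟨h1, h2⟩
      rwa [hco.gcd_eq_one, pow_one] at this
    · exact Or.inr ⟨hrq, hr2', fun w h => hw ⟨w, h⟩⟩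
  · obtain ⟨k, hk⟩ := Nat.exists_mul_mod_eq_one_of_coprime (n := r) (k := q + 1)
      (hr.coprime_iff_not_dvd.2 hrq) (by omega)
    refine Or.inl ⟨z ^ k, ?_, by rw [← pow_mul, mul_comm, pow_mul, hz, one_pow]⟩
    rw [← pow_mul, mul_comm, ← Nat.div_add_mod (r * k) (q + 1), pow_add, pow_mul, hz, one_pow, one_mul, hk.2,
      pow_one]

/-- The non-split case: blocks of dimension `r`. -/
theorem twisted_self_inv [Fact r.Prime] (hF : Fintype.card F = q ^ 2) (hσq : ∀ x, σ x = x ^ q) (hrq : r ∣ q + 1)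
    (hr2 : r ≠ 2) {V : Type v} [AddCommGroup V] [Module F V] [FiniteDimensional F V] {a : Module.End F V} {z : F}
    (hz : z ^ (q + 1) = 1) (hroot : ∀ w : F, w ^ r ≠ z) (har : a ^ r = z • 1) :
    SelfInv σ a (X ^ r - C z) q r := by
  have hr := (Fact.out : r.Prime)
  have hodd := hr.odd_of_ne_two hr2
  have hirr : Irreducible (X ^ r - C z) := X_pow_sub_C_irreducible_of_prime hr hroot
  have hm : (X ^ r - C z).Monic := monic_X_pow_sub_C z hr.ne_zero
  refine ⟨hF, hσq, hodd, fun f hf hfi hfd => ?_, hirr.squarefree, ?_, ?_⟩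
  · rw [eq_of_monic_of_associated hf hm (hfi.associated_of_dvd hirr hfd), natDegree_X_pow_sub_C]
  · rw [map_sub, map_pow, aeval_X, aeval_C, har, Module.algebraMap_end_eq_smul_id]
    exact sub_self _
  · have hS : ((q : ℤ) ^ r + 1) = ((q : ℤ) + 1) * (Finset.range r).sum (fun j => (-(q : ℤ)) ^ j) := by
      have e := mul_geom_sum (-(q : ℤ)) r
      rw [hodd.neg_pow] at e
      linear_combination e
    obtain ⟨u, hu⟩ : (r : ℤ) ∣ (Finset.range r).sum (fun j => (-(q : ℤ)) ^ j) := by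
      rw [← ZMod.intCast_zmod_eq_zero_iff_dvd, Int.cast_sum]
      have h1 : (-(q : ZMod r)) = 1 := by
        have hc' : ((q + 1 : ℕ) : ZMod r) = 0 := (ZMod.natCast_eq_zero_iff _ _).2 hrq
        push_cast at hc'
        linear_combination -hc'
      simp [h1]
    obtain ⟨k, hk⟩ : r * (q + 1) ∣ q ^ r + 1 := by
      have h5 : ((r * (q + 1) : ℕ) : ℤ) ∣ ((q ^ r + 1 : ℕ) : ℤ) := by
        refine ⟨u, ?_⟩
        push_cast
        linear_combination hS + ((q : ℤ) + 1) * hu
      exact Int.natCast_dvd_natCast.1 h5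
    rw [hk, mul_assoc, pow_mul, har, _root_.smul_pow, one_pow, pow_mul, hz, one_pow, one_smul]

/-! ### Involutions -/

section Two

variable {V : Type v} [AddCommGroup V] [Module F V] [FiniteDimensional F V] {B : V →ₛₗ[σ] V →ₗ[F] F}
  {b : Module.End F V}

omit [Fintype F] [FiniteDimensional F V] in
theorem mv_neg (hb : b ^ 2 = 1) {x : V} (hx : x ∈ mv b) : b x = -x := by
  obtain ⟨y, rfl⟩ := hx
  simp only [LinearMap.sub_apply, Module.End.one_apply, map_sub, ← Module.End.mul_apply, ← sq, hb]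
  abel

omit [Fintype F] in
theorem isCompl_fx_mv (h2 : (2 : F) ≠ 0) (hb : b ^ 2 = 1) : IsCompl (fx b) (mv b) := by
  have hd : Disjoint (fx b) (mv b) := Submodule.disjoint_def.2 fun x hx hx' => by
    have h := (fx_apply hx).symm.trans (mv_neg hb hx')
    have : (2 : F) • x = 0 := by rw [two_smul]; exact eq_neg_iff_add_eq_zero.1 h
    exact (smul_eq_zero.1 this).resolve_left h2
  refine ⟨hd, codisjoint_iff.2 (Submodule.eq_top_of_finrank_eq ?_)⟩
  have h1 := Submodule.finrank_sup_add_finrank_inf_eq (fx b) (mv b)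
  rw [hd.eq_bot, finrank_bot] at h1
  have := LinearMap.finrank_range_add_finrank_ker (b - 1)
  change finrank F (mv b) + finrank F (fx b) = _ at this
  omega

omit [Fintype F] in
theorem det_involution (h2 : (2 : F) ≠ 0) (hb : b ^ 2 = 1) :
    LinearMap.det b = (-1) ^ finrank F (mv b) := by
  let e := Submodule.prodEquivOfIsCompl _ _ (isCompl_fx_mv h2 hb)
  have he : e.toLinearMap ∘ₗ (LinearMap.prodMap (LinearMap.id : fx b →ₗ[F] fx b) ((-1 : F) • LinearMap.id)) ∘ₗ
      e.symm.toLinearMap = b := LinearMap.ext fun v => by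
    obtain ⟨⟨x, y⟩, rfl⟩ := e.surjective v
    simp only [LinearMap.comp_apply, LinearEquiv.coe_coe, LinearEquiv.symm_apply_apply, LinearMap.prodMap_apply,
      LinearMap.id_apply, LinearMap.smul_apply]
    simp [e, Submodule.coe_prodEquivOfIsCompl', fx_apply x.2, mv_neg hb y.2]
  conv_lhs => rw [← he]
  rw [LinearMap.det_conj, LinearMap.det_prodMap, LinearMap.det_id, one_mul, LinearMap.det_smul, LinearMap.det_id,
    mul_one]

theorem exists_ti_involution (hB : IsHerm B) (hP : Pres B b) (h2 : (2 : F) ≠ 0) (hb : b ^ 2 = 1) {m : ℕ}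
    (hm : m ≤ finrank F (fx b) / 2 + finrank F (mv b) / 2) : HasTI B b m := by
  obtain ⟨hd, hNf, hNm, horth, -⟩ := fixed_decomp hB hP (r := 2) (by exact_mod_cast h2) hb
  obtain ⟨W0, hW0, ht0, hd0⟩ := exists_ti_le hB hNf (k := min m (finrank F (fx b) / 2)) (by omega)
  obtain ⟨W1, hW1, ht1, hd1⟩ := exists_ti_le hB hNm (k := m - min m (finrank F (fx b) / 2)) (by omega)
  have hor : W0 ≤ orth B W1 := fun x hx w hw => (eq_zero_comm hB).1 (horth (hW1 hw) x (hW0 hx))
  have hi1 : Inv b W1 := fun x hx => by rw [mv_neg hb (hW1 hx)]; exact W1.neg_mem hx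
  refine ⟨W0 ⊔ W1, (inv_of_le_fx hW0).sup hi1, ti_sup hB ht0 ht1 hor, ?_⟩
  have h4 := Submodule.finrank_sup_add_finrank_inf_eq W0 W1
  rw [(hd.mono hW0 hW1).eq_bot, finrank_bot, hd0, hd1] at h4
  omega

theorem exists_nd_involution (hB : IsHerm B) (hP : Pres B b) (h2 : (2 : F) ≠ 0) (hb : b ^ 2 = 1) {m : ℕ}
    (hm : m ≤ finrank F V) : HasND B b m := by
  obtain ⟨hd, hNf, hNm, horth, hdim⟩ := fixed_decomp hB hP (r := 2) (by exact_mod_cast h2) hb
  obtain ⟨W0, hW0, ht0, hd0⟩ := exists_nd_le hB hNf (k := min m (finrank F (fx b))) (by omega)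
  obtain ⟨W1, hW1, ht1, hd1⟩ := exists_nd_le hB hNm (k := m - min m (finrank F (fx b))) (by omega)
  have hor : W0 ≤ orth B W1 := fun x hx w hw => (eq_zero_comm hB).1 (horth (hW1 hw) x (hW0 hx))
  have hi1 : Inv b W1 := fun x hx => by rw [mv_neg hb (hW1 hx)]; exact W1.neg_mem hx
  refine ⟨W0 ⊔ W1, (inv_of_le_fx hW0).sup hi1, ndon_sup hB ht0 ht1 hor, ?_⟩
  have h4 := Submodule.finrank_sup_add_finrank_inf_eq W0 W1
  rw [(hd.mono hW0 hW1).eq_bot, finrank_bot, hd0, hd1] at h4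
  omega

/-- An involution negating the form has two totally isotropic eigenspaces of half the dimension. -/
theorem anti_pair (hB : IsHerm B) (h2 : (2 : F) ≠ 0) (hb : b ^ 2 = 1) (ha : ∀ u v, B (b u) (b v) = -B u v) :
    TI B (fx b) ∧ TI B (mv b) ∧ finrank F (fx b) + finrank F (mv b) = finrank F V ∧
      finrank F (fx b) = finrank F (mv b) := by
  have key : ∀ {u v : V} {s : F}, B (b u) (b v) = s * s * B u v → s * s = 1 → B u v = 0 := fun {u v s} h hs => by
    rw [ha, hs, one_mul] at h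
    exact (mul_eq_zero.1 (show (2 : F) * B u v = 0 by linear_combination -h)).resolve_left h2
  have hf : TI B (fx b) := fun u hu v hv => key (s := 1) (by rw [fx_apply hu, fx_apply hv]; ring) (one_mul 1)
  have hm : TI B (mv b) := fun u hu v hv => key (s := 1) (by rw [mv_neg hb hu, mv_neg hb hv]; simp) (one_mul 1)
  have hc := isCompl_fx_mv h2 hb
  exact ⟨hf, hm, Submodule.finrank_add_eq_of_isCompl hc,
    le_antisymm (HermPair.finrank_le_of_iso hB hf hc.symm) (HermPair.finrank_le_of_iso hB hm hc)⟩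

theorem exists_nd_anti (hB : IsHerm B) (h2 : (2 : F) ≠ 0) (hb : b ^ 2 = 1) (ha : ∀ u v, B (b u) (b v) = -B u v)
    {k : ℕ} (hk : 2 * k ≤ finrank F V) : HasND B b (2 * k) := by
  classical
  obtain ⟨hf, hm, hd, he⟩ := anti_pair hB h2 hb ha
  have hP : HermPair.Pair B (finrank F (fx b)) (fx b) (mv b) := ⟨hf, hm, isCompl_fx_mv h2 hb, rfl, he.symm⟩
  obtain ⟨u, hu, hli⟩ := hP.exists_basis
  obtain ⟨w, hw, huw, -⟩ := hP.exists_dual hB u hu hli
  have hk' : k ≤ finrank F (fx b) := by omega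
  let g : Fin k ⊕ Fin k → V := Sum.elim (fun i => u (Fin.castLE hk' i)) (fun i => w (Fin.castLE hk' i))
  have hpair : ∀ (c : Fin k ⊕ Fin k → F), (∀ s, B (g s) (∑ t, c t • g t) = 0) → c = 0 := by
    intro c hc
    funext s
    rcases s with i | i
    · have := hc (Sum.inr i)
      have hwu : ∀ j, B (g (Sum.inr i)) (g (Sum.inl j)) = if j = i then 1 else 0 := fun j => by
        show B (w (Fin.castLE hk' i)) (u (Fin.castLE hk' j)) = _
        rw [← hB.symm, huw]
        by_cases h : j = i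
        · subst h; simp
        · rw [if_neg fun e => h (Fin.castLE_injective _ e), if_neg h, map_zero]
      have hww : ∀ j, B (g (Sum.inr i)) (g (Sum.inr j)) = 0 := fun j => hm _ (hw _) _ (hw _)
      simpa [map_sum, Fintype.sum_sum_type, hwu, hww] using this
    · have := hc (Sum.inl i)
      have huw' : ∀ j, B (g (Sum.inl i)) (g (Sum.inr j)) = if i = j then 1 else 0 := fun j => by
        show B (u (Fin.castLE hk' i)) (w (Fin.castLE hk' j)) = _
        rw [huw]
        exact if_congr ⟨fun e => Fin.castLE_injective _ e, fun e => by rw [e]⟩ rfl rfl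
      have huu : ∀ j, B (g (Sum.inl i)) (g (Sum.inl j)) = 0 := fun j => hf _ (hu _) _ (hu _)
      simpa [map_sum, Fintype.sum_sum_type, huw', huu] using this
  have hgi : LinearIndependent F g := Fintype.linearIndependent_iff.2 fun c hc s =>
    congrFun (hpair c fun s => by rw [hc, map_zero]) s
  refine ⟨Submodule.span F (Set.range g), ?_, fun x hx h => ?_, ?_⟩
  · refine inv_iff.2 ?_
    rw [Submodule.map_span, Submodule.span_le]
    rintro _ ⟨_, ⟨s, rfl⟩, rfl⟩
    rcases s with i | i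
    · exact (fx_apply (hu (Fin.castLE hk' i))).symm ▸ Submodule.subset_span ⟨Sum.inl i, rfl⟩
    · show b (w (Fin.castLE hk' i)) ∈ _
      rw [mv_neg hb (hw (Fin.castLE hk' i))]
      exact neg_mem (Submodule.subset_span ⟨Sum.inr i, rfl⟩)
  · obtain ⟨c, rfl⟩ := (Submodule.mem_span_range_iff_exists_fun F).1 hx
    rw [hpair c fun s => (eq_zero_comm hB).1 (h (g s) (Submodule.subset_span ⟨s, rfl⟩))]
    simp
  · rw [finrank_span_eq_card hgi, Fintype.card_sum, Fintype.card_fin, two_mul]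

theorem even_of_nd_anti (hB : IsHerm B) (h2 : (2 : F) ≠ 0) (hb : b ^ 2 = 1) (ha : ∀ u v, B (b u) (b v) = -B u v)
    {W : Submodule F V} (hW : Inv b W) (hN : NDon B W) : Even (finrank F W) := by
  obtain ⟨hf, hm, -, -⟩ := anti_pair hB h2 hb ha
  obtain ⟨-, hsum⟩ := split_inv (r := 2) (by exact_mod_cast h2) hb hW
  have h1 := two_mul_le_of_ti hB hN inf_le_left (fun u hu v hv => hf u hu.2 v hv.2 : TI B (W ⊓ fx b))
  have h3 := two_mul_le_of_ti hB hN inf_le_left (fun u hu v hv => hm u hu.2 v hv.2 : TI B (W ⊓ mv b))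
  exact ⟨finrank F (W ⊓ fx b : Submodule F V), by omega⟩

end Two

/-- Square roots of a norm-one scalar have norm `±1`. -/
theorem exists_sqrt (hF : Fintype.card F = q ^ 2) (hodd : q % 2 = 1) {z : F} (hz : z ^ (q + 1) = 1) :
    ∃ w : F, w ≠ 0 ∧ w ^ 2 = z ∧ w ^ (q + 1) = z ^ ((q + 1) / 2) ∧ (z ^ ((q + 1) / 2) = 1 ∨ z ^ ((q + 1) / 2) = -1) := by
  have hz0 : z ≠ 0 := fun h => by rw [h, zero_pow (by omega)] at hz; exact zero_ne_one hz
  have hchar : ringChar F ≠ 2 := by
    intro h2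
    have := FiniteField.even_card_of_char_two h2
    rw [hF, Nat.pow_mod, hodd] at this
    simp at this
  obtain ⟨w, hw⟩ : IsSquare z := by
    rw [FiniteField.isSquare_iff hchar hz0, hF]
    have e : q ^ 2 / 2 = (q + 1) * ((q - 1) / 2) := by
      obtain ⟨j, hj⟩ := Nat.odd_iff.2 hodd
      subst hj
      rw [show (2 * j + 1 - 1) / 2 = j by omega, show (2 * j + 1 + 1) * j = (2 * j + 2) * j by ring,
        show (2 * j + 1) ^ 2 = 2 * ((2 * j + 2) * j) + 1 by ring]
      omega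
    rw [e, pow_mul, hz, one_pow]
  have he : w ^ (q + 1) = z ^ ((q + 1) / 2) := by
    rw [hw, ← sq, ← pow_mul]
    congr 1
    omega
  refine ⟨w, fun h => hz0 (by rw [hw, h, mul_zero]), by rw [hw, sq], he, ?_⟩
  refine mul_self_eq_one_iff.1 ?_
  rw [← pow_add, show (q + 1) / 2 + (q + 1) / 2 = q + 1 by omega, hz]

end Cfsg.Agent.Classical.UnitElem
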