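import Cfsg.Agent.Classical.UnitElem.Basic

/-!
# Unipotent isometries of Hermitian spaces: orthogonal decomposition into single Jordan blocks
-/

set_option autoImplicit false

namespace Cfsg.Agent.Classical.UnitElem

open Module Polynomial
open Cfsg.Agent.Classical.Herm
open Cfsg.Agent.Classical.SympElem (Inv inv_iff inv_top inv_bot)

universe u v

/-- Rank of the `j`-th power of a nilpotent map with Jordan blocks `μ`. -/
def rankFn (μ : Multiset ℕ) (j : ℕ) : ℕ := (μ.map fun x => x - j).sum

theorem rankFn_add (μ ν : Multiset ℕ) (j : ℕ) : rankFn (μ + ν) j = rankFn μ j + rankFn ν j := by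
  simp [rankFn, Multiset.map_add]

theorem count_add_rankFn (μ : Multiset ℕ) {k : ℕ} (hk : 1 ≤ k) :
    μ.count k + 2 * rankFn μ k = rankFn μ (k - 1) + rankFn μ (k + 1) := by
  induction μ using Multiset.induction with
  | empty => simp [rankFn]
  | cons x μ ih =>
    simp only [rankFn, Multiset.map_cons, Multiset.sum_cons, Multiset.count_cons] at ih ⊢
    split_ifs <;> omega

theorem eq_of_rankFn {μ ν : Multiset ℕ} (hμ : ∀ x ∈ μ, 0 < x) (hν : ∀ x ∈ ν, 0 < x)
    (h : ∀ j, rankFn μ j = rankFn ν j) : μ = ν := by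
  refine Multiset.ext.2 fun k => ?_
  rcases Nat.eq_zero_or_pos k with rfl | hk
  · rw [Multiset.count_eq_zero.2 fun hm => lt_irrefl 0 (hμ _ hm),
      Multiset.count_eq_zero.2 fun hm => lt_irrefl 0 (hν _ hm)]
  · have h1 := count_add_rankFn μ hk
    have h2 := count_add_rankFn ν hk
    rw [h, h, h] at h1
    omega

variable {F : Type u} [Field F] [Fintype F] {σ : F →+* F} {V : Type v} [AddCommGroup V] [Module F V]
  [FiniteDimensional F V] {B : V →ₛₗ[σ] V →ₗ[F] F} {a : Module.End F V}

omit [Fintype F] [FiniteDimensional F V] in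
theorem swap_step (hP : Pres B a) (u w : V) : B ((a - 1) u) (a w) = - B u ((a - 1) w) := by
  simp [LinearMap.sub_apply, hP u w]

omit [Fintype F] [FiniteDimensional F V] in
theorem pow_sub_one_mem {W : Submodule F V} (hW : Inv a W) (i : ℕ) {w : V} (hw : w ∈ W) : ((a - 1) ^ i) w ∈ W := by
  induction i with
  | zero => exact hw
  | succ i ih =>
    rw [pow_succ', Module.End.mul_apply, LinearMap.sub_apply, Module.End.one_apply]
    exact W.sub_mem (hW _ ih) ih

omit [Fintype F] [FiniteDimensional F V] in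
theorem map_pow_le {W : Submodule F V} (hW : Inv a W) (i : ℕ) : W.map ((a - 1) ^ i) ≤ W :=
  Submodule.map_le_iff_le_comap.2 fun _ hw => pow_sub_one_mem hW i hw

theorem finrank_map_sup (hB : IsHerm B) {U W : Submodule F V} (hUi : Inv a U) (hWi : Inv a W)
    (hU : NDon B U) (h : U ≤ orth B W) (i : ℕ) :
    finrank F ((U ⊔ W).map ((a - 1) ^ i)) =
      finrank F (U.map ((a - 1) ^ i)) + finrank F (W.map ((a - 1) ^ i)) := by
  rw [Submodule.map_sup]
  have hd : U.map ((a - 1) ^ i) ⊓ W.map ((a - 1) ^ i) = ⊥ :=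
    eq_bot_iff.2 ((inf_le_inf (map_pow_le hUi i) (map_pow_le hWi i)).trans
      (disjoint_of_orth hU hB h).eq_bot.le)
  have h1 := Submodule.finrank_sup_add_finrank_inf_eq (U.map ((a - 1) ^ i)) (W.map ((a - 1) ^ i))
  rw [hd, finrank_bot, add_zero] at h1
  exact h1

/-- A nonzero non-degenerate invariant subspace contains a non-degenerate single block. -/
theorem exists_block (hB : IsHerm B) (hP : Pres B a) {p : ℕ} (hp : (a - 1) ^ p = 0) {W : Submodule F V}
    (hW : Inv a W) (hN : NDon B W) (hW0 : W ≠ ⊥) :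
    ∃ (k : ℕ) (U : Submodule F V), 0 < k ∧ k ≤ p ∧ U ≤ W ∧ Inv a U ∧ NDon B U ∧ finrank F U = k ∧
      ∀ i, finrank F (U.map ((a - 1) ^ i)) = k - i := by
  classical
  set N := a - 1 with hNdef
  have hex : ∃ k, ∀ w ∈ W, (N ^ k) w = 0 := ⟨p, fun w _ => by rw [hp]; rfl⟩
  set k := Nat.find hex with hk
  have hkp : k ≤ p := Nat.find_le fun w _ => by rw [hp]; rfl
  have hz : ∀ j, k ≤ j → ∀ w ∈ W, (N ^ j) w = 0 := fun j hj w hw => by
    rw [← Nat.sub_add_cancel hj, pow_add, Module.End.mul_apply, Nat.find_spec hex w hw, map_zero]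
  have hk0 : 0 < k := by
    refine Nat.pos_of_ne_zero fun h0 => hW0 ((Submodule.eq_bot_iff _).2 fun w hw => ?_)
    have := hz 0 (le_of_eq h0) w hw
    rwa [pow_zero, Module.End.one_apply] at this
  obtain ⟨v, hv, hvne⟩ : ∃ v ∈ W, B v ((N ^ (k - 1)) v) ≠ 0 := by
    by_contra hc
    push Not at hc
    obtain ⟨c, hcm⟩ := exists_moved hB.toIsInvol
    refine Nat.find_min hex (show k - 1 < k by omega) fun w hw => ?_
    refine hN _ (pow_sub_one_mem hW _ hw) fun u hu => (eq_zero_comm hB).1 ?_
    have h1 := hc (u + w) (W.add_mem hu hw)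
    have h2 := hc (c • u + w) (W.add_mem (W.smul_mem c hu) hw)
    simp only [map_add, map_smul, map_smulₛₗ, LinearMap.add_apply, LinearMap.smul_apply, smul_eq_mul,
      RingHom.id_apply, hc u hu, hc w hw] at h1 h2
    by_contra hne
    refine hcm ?_
    have h3 : (σ c - c) * B u ((N ^ (k - 1)) w) = 0 := by linear_combination h2 - c * h1
    exact sub_eq_zero.1 ((mul_eq_zero.1 h3).resolve_right hne)
  have step : ∀ i j, ∀ x y : V, B ((N ^ (i + 1)) x) ((N ^ j) y) =
      - B ((N ^ i) x) ((N ^ (j + 1)) y) - B ((N ^ (i + 1)) x) ((N ^ (j + 1)) y) := by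
    intro i j x y
    have e := swap_step hP ((N ^ i) x) ((N ^ j) y)
    have ea : a ((N ^ j) y) = (N ^ (j + 1)) y + (N ^ j) y := by
      rw [pow_succ' N j, Module.End.mul_apply, hNdef, LinearMap.sub_apply, Module.End.one_apply, sub_add_cancel]
    rw [ea, map_add, ← hNdef, ← Module.End.mul_apply, ← pow_succ', ← Module.End.mul_apply, ← pow_succ'] at e
    linear_combination e
  have hvan : ∀ i j, k ≤ i + j → B ((N ^ i) v) ((N ^ j) v) = 0 := by
    intro i
    induction i with
    | zero => exact fun j hj => by rw [hz j (by omega) v hv, map_zero]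
    | succ i ih =>
      suffices ∀ d j, k ≤ j + d → k ≤ i + 1 + j → B ((N ^ (i + 1)) v) ((N ^ j) v) = 0 from
        fun j hj => this k j (by omega) hj
      intro d
      induction d with
      | zero => exact fun j hj _ => by rw [hz j hj v hv, map_zero]
      | succ d ihd =>
        intro j hj hij
        rw [step, ih (j + 1) (by omega), ihd (j + 1) (by omega) (by omega)]
        simp
  have hedge : ∀ i j, i + j + 1 = k → B ((N ^ i) v) ((N ^ j) v) ≠ 0 := by
    intro i
    induction i with
    | zero =>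
      intro j hj
      rw [pow_zero, Module.End.one_apply, show j = k - 1 by omega]
      exact hvne
    | succ i ih =>
      intro j hj
      rw [step, hvan (i + 1) (j + 1) (by omega), sub_zero, neg_ne_zero]
      exact ih (j + 1) (by omega)
  set f : Fin k → V := fun i => (N ^ (i : ℕ)) v with hf
  have key : ∀ c : Fin k → F, (∀ i : Fin k, B (f i) (∑ l, c l • f l) = 0) → c = 0 := by
    intro c hc
    by_contra hne
    have hne' : (Finset.univ.filter fun l => c l ≠ 0).Nonempty := by
      by_contra he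
      rw [Finset.not_nonempty_iff_eq_empty, Finset.filter_eq_empty_iff] at he
      exact hne (funext fun l => not_not.1 (he (Finset.mem_univ l)))
    set l0 := (Finset.univ.filter fun l => c l ≠ 0).min' hne'
    have hl0 : c l0 ≠ 0 := (Finset.mem_filter.1 (Finset.min'_mem _ hne')).2
    have h1 := hc ⟨k - 1 - l0, by omega⟩
    rw [map_sum, Finset.sum_eq_single l0] at h1
    · rw [map_smul, smul_eq_mul] at h1
      exact mul_ne_zero hl0 (hedge _ _ (by have := l0.2; simp only; omega)) h1
    · intro l _ hl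
      by_cases hcl : c l = 0
      · rw [hcl, zero_smul, map_zero]
      · have hle : l0 ≤ l := Finset.min'_le (Finset.univ.filter fun x : Fin k => c x ≠ 0) l
            (Finset.mem_filter.2 (⟨Finset.mem_univ l, hcl⟩ : l ∈ Finset.univ ∧ c l ≠ 0))
        have hlt : (l0 : ℕ) < (l : ℕ) := lt_of_le_of_ne hle fun e => hl (Fin.ext e.symm)
        rw [map_smul, hvan _ _ (by simp only; omega), smul_zero]
    · exact fun h => absurd (Finset.mem_univ _) h
  have hli : LinearIndependent F f := Fintype.linearIndependent_iff.2 fun c hc l =>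
    congrFun (key c fun i => by rw [hc, map_zero]) l
  refine ⟨k, Submodule.span F (Set.range f), hk0, hkp,
    Submodule.span_le.2 (by rintro _ ⟨i, rfl⟩; exact pow_sub_one_mem hW _ hv), ?_, ?_,
    by rw [finrank_span_eq_card hli, Fintype.card_fin], fun i => ?_⟩
  · have hmem : ∀ i, (N ^ i) v ∈ Submodule.span F (Set.range f) := fun i => by
      rcases Nat.lt_or_ge i k with h | h
      · exact Submodule.subset_span ⟨⟨i, h⟩, rfl⟩
      · rw [hz i h v hv]; exact zero_mem _
    suffices h : (Submodule.span F (Set.range f)).map a ≤ Submodule.span F (Set.range f) from inv_iff.2 h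
    rw [Submodule.map_span, Submodule.span_le]
    rintro _ ⟨_, ⟨i, rfl⟩, rfl⟩
    have : a (f i) = (N ^ ((i : ℕ) + 1)) v + (N ^ (i : ℕ)) v := by
      rw [pow_succ' N, Module.End.mul_apply, hNdef, LinearMap.sub_apply, Module.End.one_apply, sub_add_cancel]
    rw [this]
    exact add_mem (hmem _) (hmem _)
  · intro x hx h
    obtain ⟨c, rfl⟩ := (Submodule.mem_span_range_iff_exists_fun F).1 hx
    rw [key c fun i => (eq_zero_comm hB).1 (h (f i) (Submodule.subset_span ⟨i, rfl⟩))]
    simp
  · let g : Fin (k - i) → V := fun l => (N ^ (i + (l : ℕ))) v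
    have hg : LinearIndependent F g := by
      have := hli.comp (fun l : Fin (k - i) => (⟨i + l, by have := l.2; omega⟩ : Fin k))
        fun x y h => Fin.ext (by have := congrArg Fin.val h; simp at this; omega)
      exact this
    suffices (Submodule.span F (Set.range f)).map (N ^ i) = Submodule.span F (Set.range g) by
      rw [this, finrank_span_eq_card hg, Fintype.card_fin]
    rw [Submodule.map_span]
    refine le_antisymm (Submodule.span_le.2 ?_) (Submodule.span_mono ?_)
    · rintro _ ⟨_, ⟨l, rfl⟩, rfl⟩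
      rw [hf, ← Module.End.mul_apply, ← pow_add]
      rcases Nat.lt_or_ge (l : ℕ) (k - i) with h | h
      · exact Submodule.subset_span ⟨⟨l, h⟩, rfl⟩
      · rw [hz _ (by omega) v hv]; exact zero_mem _
    · rintro _ ⟨l, rfl⟩
      refine ⟨f ⟨l, by have := l.2; omega⟩, ⟨_, rfl⟩, ?_⟩
      rw [hf, ← Module.End.mul_apply, ← pow_add]

/-- Orthogonal decomposition into single blocks. -/
theorem exists_blocks (hB : IsHerm B) (hP : Pres B a) {p : ℕ} (hp : (a - 1) ^ p = 0) {W : Submodule F V}
    (hW : Inv a W) (hN : NDon B W) :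
    ∃ μ : Multiset ℕ, (∀ x ∈ μ, 0 < x ∧ x ≤ p) ∧ μ.sum = finrank F W ∧
      (∀ i, finrank F (W.map ((a - 1) ^ i)) = rankFn μ i) ∧
      ∀ ν ≤ μ, ∃ W' : Submodule F V, W' ≤ W ∧ Inv a W' ∧ NDon B W' ∧ finrank F W' = ν.sum := by
  classical
  induction h : finrank F W using Nat.strong_induction_on generalizing W with
  | _ n ih =>
    subst h
    by_cases hW0 : W = ⊥
    · subst hW0
      refine ⟨0, by simp, by simp, fun i => by simp [rankFn], fun ν hν => ⟨⊥, le_rfl, inv_bot, ndon_bot, ?_⟩⟩
      rw [Multiset.le_zero.1 hν]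
      simp
    obtain ⟨k, U, hk0, hkp, hUW, hUi, hUn, hUk, hUr⟩ := exists_block hB hP hp hW hN hW0
    set W1 := W ⊓ orth B U with hW1
    have hsup : U ⊔ W1 = W := by
      refine le_antisymm (sup_le hUW inf_le_left) fun x hx => ?_
      obtain ⟨y, hy, z, hz, rfl⟩ := Submodule.mem_sup.1
        (show x ∈ U ⊔ orth B U by rw [(isCompl_orth hB hUn).sup_eq_top]; trivial)
      exact Submodule.add_mem_sup hy ⟨by simpa using W.sub_mem hx (hUW hy), hz⟩
    have hor : U ≤ orth B W1 := le_orth_symm hB inf_le_right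
    have hW1n : NDon B W1 := fun x hx h0 => hN x hx.1 fun y hy => by
      rw [← hsup] at hy
      obtain ⟨y1, hy1, y2, hy2, rfl⟩ := Submodule.mem_sup.1 hy
      rw [map_add, h0 y2 hy2, hor hy1 x hx, add_zero]
    have hdim : k + finrank F W1 = finrank F W := by
      have h1 := Submodule.finrank_sup_add_finrank_inf_eq U W1
      rw [hsup, (disjoint_of_orth hUn hB hor).eq_bot, finrank_bot, add_zero, hUk] at h1
      exact h1.symm
    obtain ⟨μ, hμ, hsum, hrank, hsub⟩ :=
      ih (finrank F W1) (by omega) (hW.inf (inv_orth hB hP hUi)) hW1n rfl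
    refine ⟨k ::ₘ μ, ?_, by simp [hsum, hdim], fun i => ?_, fun ν hν => ?_⟩
    · intro x hx
      rcases Multiset.mem_cons.1 hx with rfl | hx
      · exact ⟨hk0, hkp⟩
      · exact hμ x hx
    · rw [← hsup, finrank_map_sup hB hUi (hW.inf (inv_orth hB hP hUi)) hUn hor, hUr, hrank]
      simp [rankFn]
    · by_cases hkν : k ∈ ν
      · obtain ⟨ν', rfl⟩ := Multiset.exists_cons_of_mem hkν
        obtain ⟨W', h1, h2, h3, h4⟩ := hsub ν' ((Multiset.cons_le_cons_iff k).1 hν)
        refine ⟨U ⊔ W', sup_le hUW (h1.trans inf_le_left), hUi.sup h2,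
          ndon_sup hB hUn h3 (le_orth_symm hB (h1.trans inf_le_right)), ?_⟩
        have h5 := Submodule.finrank_sup_add_finrank_inf_eq U W'
        rw [(disjoint_of_orth hUn hB (le_orth_symm hB (h1.trans inf_le_right))).eq_bot, finrank_bot,
          add_zero, hUk, h4] at h5
        rw [h5, Multiset.sum_cons]
      · obtain ⟨W', h1, h2, h3, h4⟩ := hsub ν ((Multiset.le_cons_of_notMem hkν).1 hν)
        exact ⟨W', h1.trans inf_le_left, h2, h3, h4⟩

/-- Invariant non-degenerate subspaces only have dimensions of sub-multisets of the block sizes. -/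
theorem exists_sub_of_nd (hB : IsHerm B) (hP : Pres B a) {p : ℕ} (hp : (a - 1) ^ p = 0) {μ : Multiset ℕ}
    (hμ : ∀ x ∈ μ, 0 < x) (hrank : ∀ i, finrank F (LinearMap.range ((a - 1) ^ i)) = rankFn μ i)
    {W : Submodule F V} (hW : Inv a W) (hN : NDon B W) : ∃ ν ≤ μ, ν.sum = finrank F W := by
  obtain ⟨μ1, h1, h1s, h1r, -⟩ := exists_blocks hB hP hp hW hN
  obtain ⟨μ2, h2, h2s, h2r, -⟩ := exists_blocks hB hP hp (inv_orth hB hP hW) (ndon_orth hB hN)
  have heq : μ = μ1 + μ2 := by
    refine eq_of_rankFn hμ (fun x hx => ?_) fun i => ?_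
    · rcases Multiset.mem_add.1 hx with hx | hx
      exacts [(h1 x hx).1, (h2 x hx).1]
    · rw [rankFn_add, ← h1r, ← h2r,
        ← finrank_map_sup hB hW (inv_orth hB hP hW) hN (le_orth_symm hB le_rfl) i,
        (isCompl_orth hB hN).sup_eq_top, Submodule.map_top, hrank]
  exact ⟨μ1, heq ▸ Multiset.le_add_right μ1 μ2, h1s⟩

end Cfsg.Agent.Classical.UnitElem
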