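import Cfsg.Agent.Classical.UnitElem.Prime
import Cfsg.Agent.Classical.UnitElem.Unip

/-!
# Model Hermitian spaces with isometries, and their transport to `SU_n`
-/

set_option autoImplicit false

namespace Cfsg.Agent.Classical.UnitElem

open Module Polynomial
open Cfsg.Agent.Classical (hermB hermB_apply hermB_isHerm isON_single mem_SU_iff exists_powHom)
open Cfsg.Agent.Classical.Herm
open Cfsg.Agent.Classical.SympElem (Inv inv_top fx fx_apply)

universe u v w

variable {F : Type u} [Field F] {σ : F →+* F}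

section Forms

variable {V : Type v} [AddCommGroup V] [Module F V] {W : Type w} [AddCommGroup W] [Module F W]

/-- The orthogonal sum. -/
def prodB (B : V →ₛₗ[σ] V →ₗ[F] F) (C : W →ₛₗ[σ] W →ₗ[F] F) : (V × W) →ₛₗ[σ] (V × W) →ₗ[F] F :=
  LinearMap.mk₂'ₛₗ σ (RingHom.id F) (fun x y => B x.1 y.1 + C x.2 y.2)
    (fun u u' v => by simp; abel) (fun c u v => by simp [mul_add]) (fun u v v' => by simp; abel)
    (fun c u v => by simp [mul_add])

theorem prodB_apply (B : V →ₛₗ[σ] V →ₗ[F] F) (C : W →ₛₗ[σ] W →ₗ[F] F) (x y : V × W) :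
    prodB B C x y = B x.1 y.1 + C x.2 y.2 := rfl

theorem isHerm_prodB {B : V →ₛₗ[σ] V →ₗ[F] F} {C : W →ₛₗ[σ] W →ₗ[F] F} (hB : IsHerm B) (hC : IsHerm C) :
    IsHerm (prodB B C) :=
  { toIsInvol := hB.toIsInvol
    symm := fun x y => by simp [prodB_apply, map_add, hB.symm, hC.symm]
    nondeg := fun x hx => by
      refine Prod.ext (hB.nondeg _ fun y => ?_) (hC.nondeg _ fun y => ?_)
      · simpa [prodB_apply] using hx (y, 0)
      · simpa [prodB_apply] using hx (0, y) }

theorem pres_prod {B : V →ₛₗ[σ] V →ₗ[F] F} {C : W →ₛₗ[σ] W →ₗ[F] F} {a : Module.End F V} {b : Module.End F W}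
    (ha : Pres B a) (hb : Pres C b) : Pres (prodB B C) (a.prodMap b) := fun x y => by
  simp [prodB_apply, ha _ _, hb _ _]

theorem prodMap_pow (a : Module.End F V) (b : Module.End F W) (k : ℕ) :
    (a.prodMap b : Module.End F (V × W)) ^ k = LinearMap.prodMap (a ^ k) (b ^ k) := by
  induction k with
  | zero => exact LinearMap.ext fun x => rfl
  | succ k ih => rw [pow_succ, ih, pow_succ, pow_succ]; exact LinearMap.ext fun x => rfl

/-- The sum of copies of a form. -/
def piB (ι : Type*) [Fintype ι] (B : V →ₛₗ[σ] V →ₗ[F] F) : (ι → V) →ₛₗ[σ] (ι → V) →ₗ[F] F :=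
  LinearMap.mk₂'ₛₗ σ (RingHom.id F) (fun x y => ∑ i, B (x i) (y i))
    (fun u u' v => by simp [Finset.sum_add_distrib]) (fun c u v => by simp [Finset.mul_sum])
    (fun u v v' => by simp [Finset.sum_add_distrib]) (fun c u v => by simp [Finset.mul_sum])

theorem piB_apply {ι : Type*} [Fintype ι] (B : V →ₛₗ[σ] V →ₗ[F] F) (x y : ι → V) :
    piB ι B x y = ∑ i, B (x i) (y i) := rfl

theorem isHerm_piB {ι : Type*} [Fintype ι] {B : V →ₛₗ[σ] V →ₗ[F] F} (hB : IsHerm B) : IsHerm (piB ι B) :=
  { toIsInvol := hB.toIsInvol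
    symm := fun x y => by simp [piB_apply, map_sum, hB.symm]
    nondeg := fun x hx => funext fun i => hB.nondeg _ fun y => by
      classical
      have := hx (Pi.single i y)
      rw [piB_apply, Finset.sum_eq_single i (fun j _ hj => by simp [hj]) (by simp)] at this
      simpa using this }

end Forms

/-! ### Transport to `SU_n` -/

theorem det_pres_norm [Fintype F] {q : ℕ} (hσq : ∀ x, σ x = x ^ q) {V : Type v} [AddCommGroup V] [Module F V]
    [FiniteDimensional F V] {B : V →ₛₗ[σ] V →ₗ[F] F} (hB : IsHerm B) {a : Module.End F V} (hP : Pres B a) :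
    LinearMap.det a * σ (LinearMap.det a) = 1 ∧ ∀ n, finrank F V = n → ∃ e : V ≃ₗ[F] (Fin n → F),
      (∀ u v, hermB n σ (e u) (e v) = B u v) ∧
      ∃ g ∈ HermPair.isoG (hermB n σ), ∀ v, g (e v) = e (a v) := by
  have hex : ∀ n, finrank F V = n → ∃ e : V ≃ₗ[F] (Fin n → F), (∀ u v, hermB n σ (e u) (e v) = B u v) ∧
      ∃ g ∈ HermPair.isoG (hermB n σ), ∀ v, g (e v) = e (a v) := by
    intro n hn
    subst hn
    obtain ⟨b, hb⟩ := exists_orthonormal hB
    have hlin : ∀ f g : Fin (finrank F V) → F,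
        B (∑ i, f i • b i) (∑ i, g i • b i) = ∑ i, σ (f i) * g i := fun f g => by
      simp [map_sum, hb _ _, mul_comm]
    have he : ∀ u v, hermB (finrank F V) σ (b.equivFun u) (b.equivFun v) = B u v := fun u v => by
      have h' := hlin (b.equivFun u) (b.equivFun v)
      rw [b.sum_equivFun, b.sum_equivFun] at h'
      rw [hermB_apply, h']
    let a' : V ≃ₗ[F] V := LinearEquiv.ofBijective a
      ⟨hP.injective hB, LinearMap.surjective_of_injective (hP.injective hB)⟩
    refine ⟨b.equivFun, he, (b.equivFun.symm.trans a').trans b.equivFun, fun u v => ?_, fun v => ?_⟩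
    · obtain ⟨u, rfl⟩ := b.equivFun.surjective u
      obtain ⟨v, rfl⟩ := b.equivFun.surjective v
      simp only [LinearEquiv.trans_apply, LinearEquiv.symm_apply_apply]
      rw [he, he]
      exact hP u v
    · simp only [LinearEquiv.trans_apply, LinearEquiv.symm_apply_apply]
      rfl
  refine ⟨?_, hex⟩
  obtain ⟨e, -, g, hg, hge⟩ := hex _ rfl
  have hd : LinearMap.det (g : (Fin (finrank F V) → F) →ₗ[F] (Fin (finrank F V) → F)) = LinearMap.det a := by
    rw [← LinearMap.det_conj a e]
    congr 1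
    exact LinearMap.ext fun x => by simpa using hge (e.symm x)
  rw [← hd]
  exact HermPair.norm_det hσq hg

theorem det_eq_one [Fintype F] {q r : ℕ} [Fact r.Prime] (hσq : ∀ x, σ x = x ^ q) {V : Type v} [AddCommGroup V]
    [Module F V] [FiniteDimensional F V] {B : V →ₛₗ[σ] V →ₗ[F] F} (hB : IsHerm B) {a : Module.End F V}
    (hP : Pres B a) (har : a ^ r = 1) (hr : ¬ r ∣ q + 1) : LinearMap.det a = 1 := by
  have h1 : LinearMap.det a ^ r = 1 := by rw [← map_pow, har, map_one]
  have h2 : LinearMap.det a ^ (q + 1) = 1 := by rw [pow_succ', ← hσq]; exact (det_pres_norm hσq hB hP).1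
  have := (pow_gcd_eq_one (a := LinearMap.det a) (m := r) (n := q + 1)).2 ⟨h1, h2⟩
  rwa [((Fact.out : r.Prime).coprime_iff_not_dvd.2 hr).gcd_eq_one, pow_one] at this

/-- An isometry of determinant one becomes an element of `SU_n`. -/
theorem exists_su [Fintype F] {q n r : ℕ} (hσq : ∀ x, σ x = x ^ q) {V : Type v} [AddCommGroup V] [Module F V]
    [FiniteDimensional F V] {B : V →ₛₗ[σ] V →ₗ[F] F} (hB : IsHerm B) {a : Module.End F V} (hP : Pres B a)
    (hn : finrank F V = n) (hdet : LinearMap.det a = 1) {z : F} (har : a ^ r = z • 1)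
    (hns : ∀ z : F, a ≠ z • 1) :
    ∃ x : Matrix.SpecialLinearGroup (Fin n) F, x ∈ Cfsg.SU n F q ∧
      ((x ^ r : Matrix.SpecialLinearGroup (Fin n) F) : Matrix (Fin n) (Fin n) F) = z • 1 ∧
      (∀ z : F, (x : Matrix (Fin n) (Fin n) F) ≠ z • 1) ∧
      ∃ e : V ≃ₗ[F] (Fin n → F), (∀ u v, hermB n σ (e u) (e v) = B u v) ∧
        ∀ W : Submodule F (Fin n → F), W.map (Matrix.toLin' (x : Matrix (Fin n) (Fin n) F)) ≤ W →
          Inv a (W.comap e.toLinearMap) := by
  obtain ⟨e, he, g, hg, hge⟩ := (det_pres_norm hσq hB hP).2 n hn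
  have hlin : (g : (Fin n → F) →ₗ[F] (Fin n → F)) = (e : V →ₗ[F] (Fin n → F)) ∘ₗ a ∘ₗ e.symm :=
    LinearMap.ext fun x => by simpa using hge (e.symm x)
  let x : Matrix.SpecialLinearGroup (Fin n) F :=
    ⟨LinearMap.toMatrix' (g : (Fin n → F) →ₗ[F] (Fin n → F)), by
      rw [← LinearMap.det_toLin', Matrix.toLin'_toMatrix', hlin, LinearMap.det_conj, hdet]⟩
  have hx : Matrix.toLin' (x : Matrix (Fin n) (Fin n) F) = (g : (Fin n → F) →ₗ[F] (Fin n → F)) :=
    Matrix.toLin'_toMatrix' _
  have hxe : ∀ v, Matrix.toLin' (x : Matrix (Fin n) (Fin n) F) (e v) = e (a v) := fun v => by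
    rw [hx]; exact hge v
  have hxk : ∀ (k : ℕ) v, Matrix.toLin' ((x ^ k : Matrix.SpecialLinearGroup (Fin n) F) : Matrix (Fin n) (Fin n) F) (e v) =
      e ((a ^ k) v) := by
    intro k
    induction k with
    | zero => intro v; simp
    | succ k ih =>
      intro v
      rw [pow_succ, Matrix.SpecialLinearGroup.coe_mul, Matrix.toLin'_mul, LinearMap.comp_apply, hxe, ih,
        ← Module.End.mul_apply, ← pow_succ]
  refine ⟨x, ?_, ?_, ?_, e, he, fun W hW v hv => ?_⟩
  · rw [mem_SU_iff hσq]
    intro u v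
    rw [← Matrix.toLin'_apply, ← Matrix.toLin'_apply, hx]
    exact hg u v
  · refine Matrix.toLin'.injective (LinearMap.ext fun u => ?_)
    obtain ⟨v, rfl⟩ := e.surjective u
    rw [hxk, har]
    simp
  · intro z hz
    refine hns z (LinearMap.ext fun v => e.injective ?_)
    rw [← hxe, hz]
    simp
  · show e (a v) ∈ W
    rw [← hxe]
    exact hW ⟨e v, hv, rfl⟩

/-! ### Field blocks -/

section Field

variable [Fintype F] {q : ℕ} {L : Type v} [Field L] [Algebra F L] [FiniteDimensional F L]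

/-- The trace form of an extension of odd degree, with multiplications by norm-one elements. -/
theorem exists_field_form (hσ : IsInvol σ) (hF : Fintype.card F = q ^ 2) (hσq : ∀ x, σ x = x ^ q)
    (hD : Odd (finrank F L)) :
    ∃ B : L →ₛₗ[σ] L →ₗ[F] F, IsHerm B ∧
      ∀ θ : L, θ ^ (q ^ finrank F L + 1) = 1 → Pres B (LinearMap.mulLeft F θ) := by
  haveI : Finite L := Module.finite_of_finite F
  haveI := Fintype.ofFinite L
  have hcard : Fintype.card L = (q ^ finrank F L) ^ 2 := by
    rw [Module.card_eq_pow_finrank (K := F), hF, ← pow_mul, ← pow_mul, mul_comm]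
  obtain ⟨τ, hτ, hτi, -, -⟩ := exists_powHom (F := L) hcard
  have hc : ∀ c : F, τ (algebraMap F L c) = algebraMap F L (σ c) := fun c => by
    obtain ⟨j, hj⟩ := hD
    rw [hτ, ← map_pow, hσq, hj, pow_succ, pow_mul, pow_mul, ← hF, FiniteField.pow_card_pow]
  have htr : ∀ w : L, Algebra.trace F L (τ w) = σ (Algebra.trace F L w) := fun w => by
    refine (algebraMap F L).injective ?_
    rw [← hc, FiniteField.algebraMap_trace_eq_sum_pow, FiniteField.algebraMap_trace_eq_sum_pow, map_sum]
    exact Finset.sum_congr rfl fun i _ => (map_pow τ _ _).symm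
  refine ⟨LinearMap.mk₂'ₛₗ σ (RingHom.id F) (fun x y => Algebra.trace F L (τ x * y))
    (fun u u' v => by simp [add_mul]) (fun c u v => ?_) (fun u v v' => by simp [mul_add]) (fun c u v => ?_),
    ⟨hσ, fun x y => ?_, fun x hx => ?_⟩, fun θ hθ x y => ?_⟩
  · rw [Algebra.smul_def, map_mul τ, hc, mul_assoc, ← Algebra.smul_def, map_smul]
  · rw [mul_smul_comm, map_smul, RingHom.id_apply]
  · show σ (Algebra.trace F L (τ x * y)) = Algebra.trace F L (τ y * x)
    rw [← htr, map_mul, hτi.invol, mul_comm]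
  · haveI : Algebra.IsSeparable F L := inferInstance
    have h1 := (traceForm_nondegenerate F L).1 (τ x) fun y => by
      rw [Algebra.traceForm_apply]; exact hx y
    exact (map_eq_zero τ).1 h1
  · show Algebra.trace F L (τ (θ * x) * (θ * y)) = Algebra.trace F L (τ x * y)
    rw [map_mul τ, hτ θ, mul_mul_mul_comm, ← pow_succ, hθ, one_mul]

end Field

/-- Hyperbolic pairs over an arbitrary extension. -/
theorem exists_pair_form [Fintype F] {q p : ℕ} [Fact p.Prime] [CharP F p] (hσ : IsInvol σ) (hq : ∃ k, q = p ^ k)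
    (hσq : ∀ x, σ x = x ^ q) {L : Type v} [Field L] [Algebra F L] [FiniteDimensional F L] :
    ∃ B : (L × L) →ₛₗ[σ] (L × L) →ₗ[F] F, IsHerm B ∧
      ∀ θ : L, θ ≠ 0 → Pres B ((LinearMap.mulLeft F θ).prodMap (LinearMap.mulLeft F (θ ^ q)⁻¹)) := by
  obtain ⟨k, rfl⟩ := hq
  haveI : CharP L p := charP_of_injective_algebraMap (algebraMap F L).injective p
  haveI : Finite L := Module.finite_of_finite F
  set φ := iterateFrobenius L p k
  have hφ : ∀ x, φ x = x ^ p ^ k := fun x => iterateFrobenius_def p k x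
  have hc : ∀ c : F, φ (algebraMap F L c) = algebraMap F L (σ c) := fun c => by rw [hφ, ← map_pow, hσq]
  have hsurj : Function.Surjective φ :=
    Finite.surjective_of_injective φ.injective
  refine ⟨LinearMap.mk₂'ₛₗ σ (RingHom.id F)
    (fun x y => Algebra.trace F L (φ x.1 * y.2) + σ (Algebra.trace F L (φ y.1 * x.2)))
    (fun u u' v => ?_) (fun c u v => ?_) (fun u v v' => ?_) (fun c u v => ?_),
    ⟨hσ, fun x y => ?_, fun x hx => ?_⟩, fun θ hθ x y => ?_⟩
  · simp [add_mul, mul_add]; abel
  · simp only [Prod.smul_fst, Prod.smul_snd]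
    rw [Algebra.smul_def, map_mul φ, hc, mul_assoc, ← Algebra.smul_def, map_smul, mul_smul_comm, map_smul]
    simp [mul_add]
  · simp [add_mul, mul_add]; abel
  · simp only [Prod.smul_fst, Prod.smul_snd]
    rw [mul_smul_comm, map_smul, Algebra.smul_def c v.1, map_mul φ, hc, mul_assoc, ← Algebra.smul_def, map_smul]
    simp [mul_add, hσ.invol]
  · simp [LinearMap.mk₂'ₛₗ_apply, hσ.invol, add_comm]
  · refine Prod.ext ((map_eq_zero φ).1 ((traceForm_nondegenerate F L).1 _ fun y => ?_))
      ((traceForm_nondegenerate F L).1 _ fun y => ?_)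
    · simpa [Algebra.traceForm_apply] using hx (0, y)
    · obtain ⟨y, rfl⟩ := hsurj y
      have := hx (y, 0)
      simpa [Algebra.traceForm_apply, mul_comm] using this
  · simp only [LinearMap.mk₂'ₛₗ_apply, LinearMap.prodMap_apply, LinearMap.mulLeft_apply, map_mul, hφ θ]
    rw [mul_mul_mul_comm, mul_inv_cancel₀ (pow_ne_zero _ hθ), one_mul, mul_mul_mul_comm,
      mul_inv_cancel₀ (pow_ne_zero _ hθ), one_mul]

/-! ### Single Jordan blocks -/

theorem exists_jordan [Fintype F] {p : ℕ} [Fact p.Prime] [CharP F p] (hσ : IsInvol σ) {k : ℕ} (hk : 0 < k)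
    (hkp : k ≤ p) :
    ∃ (B : (Fin k → F) →ₛₗ[σ] (Fin k → F) →ₗ[F] F) (a : Module.End F (Fin k → F)), IsHerm B ∧ Pres B a ∧
      (a - 1) ^ p = 0 ∧ ∀ i, finrank F (LinearMap.range ((a - 1) ^ i)) = rankFn {k} i := by
  classical
  obtain ⟨δ, hδ0, hδ⟩ : ∃ δ : F, δ ≠ 0 ∧ σ δ = (-1) ^ (k - 1) * δ := by
    rcases Nat.even_or_odd (k - 1) with h | h
    · exact ⟨1, one_ne_zero, by rw [map_one, h.neg_one_pow, mul_one]⟩
    · obtain ⟨s, hs0, hs⟩ := exists_skew hσ
      exact ⟨s, hs0, by rw [hs, h.neg_one_pow, neg_one_mul]⟩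
  set d : Fin k → F := fun i => (-1) ^ (i : ℕ) * δ with hd
  let B : (Fin k → F) →ₛₗ[σ] (Fin k → F) →ₗ[F] F := LinearMap.mk₂'ₛₗ σ (RingHom.id F)
    (fun u v => ∑ i, σ (u i) * d i * v (Fin.rev i))
    (fun u u' v => by simp [add_mul, Finset.sum_add_distrib]) (fun c u v => by simp [Finset.mul_sum, mul_assoc])
    (fun u v v' => by simp [mul_add, Finset.sum_add_distrib])
    (fun c u v => by simp [Finset.mul_sum, mul_left_comm])
  have hBv : ∀ u v, B u v = ∑ i, σ (u i) * d i * v (Fin.rev i) := fun u v => rfl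
  have hsymm : ∀ u v, σ (B u v) = B v u := fun u v => by
    rw [hBv, hBv, map_sum, ← Equiv.sum_comp Fin.revPerm]
    refine Finset.sum_congr rfl fun i _ => ?_
    rw [Fin.revPerm_apply, map_mul, map_mul, Fin.rev_rev, hσ.invol, hd]
    simp only [map_mul, map_pow, map_neg, map_one, hδ, Fin.val_rev]
    have e : ((-1 : F) ^ (k - ((i : ℕ) + 1))) * (-1) ^ (k - 1) = (-1) ^ (i : ℕ) := by
      rw [← pow_add]
      conv_lhs => rw [show k - ((i : ℕ) + 1) + (k - 1) = (i : ℕ) + 2 * (k - 1 - i) by have := i.2; omega]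
      rw [pow_add, pow_mul, neg_one_sq, one_pow, mul_one]
    rw [← e]
    ring
  have hB : IsHerm B :=
    { toIsInvol := hσ
      symm := hsymm
      nondeg := fun u hu => funext fun i => by
        have := hu (Pi.single (Fin.rev i) 1)
        rw [hBv, Finset.sum_eq_single i] at this
        · rw [Pi.single_eq_same, mul_one, mul_eq_zero, hd] at this
          rcases this with h | h
          · exact (map_eq_zero σ).1 h
          · simp [hδ0] at h
        · intro j _ hj
          rw [Pi.single_eq_of_ne (fun e => hj (Fin.rev_injective e)), mul_zero]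
        · simp }
  let X : Module.End F (Fin k → F) := LinearMap.pi fun i =>
    if h : 0 < (i : ℕ) then LinearMap.proj (R := F) (φ := fun _ : Fin k => F) (⟨i - 1, by omega⟩ : Fin k) else 0
  have hX : ∀ (u : Fin k → F) (i : Fin k), X u i = if h : 0 < (i : ℕ) then u ⟨i - 1, by omega⟩ else 0 := fun u i => by
    show (if h : 0 < (i : ℕ) then LinearMap.proj (R := F) (φ := fun _ : Fin k => F) (⟨i - 1, by omega⟩ : Fin k)
      else (0 : (Fin k → F) →ₗ[F] F)) u = _
    split_ifs <;> rfl
  have hXs : ∀ i : Fin k, X (Pi.single i 1) = if h : (i : ℕ) + 1 < k then Pi.single ⟨i + 1, h⟩ 1 else 0 := fun i => by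
    funext j
    have := i.2
    have := j.2
    rw [hX]
    by_cases h : 0 < (j : ℕ)
    · rw [dif_pos h, Pi.single_apply]
      by_cases hi : (i : ℕ) + 1 < k
      · rw [dif_pos hi, Pi.single_apply]
        exact if_congr (by simp only [Fin.ext_iff]; omega) rfl rfl
      · rw [dif_neg hi, Pi.zero_apply, if_neg (by simp only [Fin.ext_iff]; omega)]
    · rw [dif_neg h]
      by_cases hi : (i : ℕ) + 1 < k
      · rw [dif_pos hi, Pi.single_apply, if_neg (by simp only [Fin.ext_iff]; omega)]
      · rw [dif_neg hi, Pi.zero_apply]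
  have hBs : ∀ i j : Fin k, B (Pi.single i 1) (Pi.single j 1) = if (i : ℕ) + j + 1 = k then d i else 0 := fun i j => by
    rw [hBv, Finset.sum_eq_single i]
    · rw [Pi.single_eq_same, map_one, one_mul, Pi.single_apply, mul_ite, mul_one, mul_zero]
      exact if_congr (by simp only [Fin.ext_iff, Fin.val_rev]; have := i.2; omega) rfl rfl
    · intro l _ hl; rw [Pi.single_eq_of_ne hl, map_zero, zero_mul, zero_mul]
    · simp
  have hskew : ∀ u v, B (X u) v + B u (X v) = 0 := fun u v => by
    have h0 : B.comp X + B.compl₂ X = 0 :=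
      (Pi.basisFun F (Fin k)).ext fun i => (Pi.basisFun F (Fin k)).ext fun j => by
        rw [Pi.basisFun_apply, Pi.basisFun_apply, LinearMap.add_apply, LinearMap.add_apply, LinearMap.comp_apply,
          LinearMap.compl₂_apply, hXs, hXs]
        have := i.2
        have := j.2
        by_cases h : (i : ℕ) + j + 2 = k
        · rw [dif_pos (by omega), dif_pos (by omega), hBs, hBs]
          simp only
          rw [if_pos (by omega), if_pos (by omega)]
          simp [hd, pow_succ]
        · split_ifs with h1 h2 h2 <;> simp only [map_zero, LinearMap.zero_apply, add_zero, zero_add, hBs] <;>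
            (repeat' rw [if_neg (by omega)]) <;> simp
    exact LinearMap.congr_fun (LinearMap.congr_fun h0 u) v
  have hpowv : ∀ (m : ℕ) (u : Fin k → F) (i : Fin k),
      (X ^ m) u i = if m ≤ (i : ℕ) then u ⟨i - m, by omega⟩ else 0 := by
    intro m
    induction m with
    | zero => intro u i; simp
    | succ m ih =>
      intro u i
      rw [pow_succ', Module.End.mul_apply, hX]
      have := i.2
      by_cases h : 0 < (i : ℕ)
      · rw [dif_pos h, ih]
        by_cases h' : m + 1 ≤ (i : ℕ)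
        · rw [if_pos (by simp only; omega), if_pos h']
          congr 1; simp only [Fin.ext_iff]; omega
        · rw [if_neg (by simp only; omega), if_neg h']
      · rw [dif_neg h, if_neg (by omega)]
  have hXk : X ^ k = 0 := LinearMap.ext fun u => funext fun i => by
    rw [hpowv, if_neg (by have := i.2; omega)]; rfl
  have hXne : X ^ (k - 1) ≠ 0 := fun h0 => by
    have := congrFun (LinearMap.congr_fun h0 (Pi.single ⟨0, hk⟩ 1)) ⟨k - 1, by omega⟩
    rw [hpowv, if_pos le_rfl] at this
    simp at this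
  obtain ⟨a, hP, hak, hane⟩ : ∃ a : Module.End F (Fin k → F), Pres B a ∧ (a - 1) ^ k = 0 ∧ (a - 1) ^ (k - 1) ≠ 0 := by
    by_cases hk2 : k ≤ 2
    · refine ⟨1 + X, fun u v => ?_, by rw [add_sub_cancel_left, hXk], by rw [add_sub_cancel_left]; exact hXne⟩
      have h2 : X (X v) = 0 := by
        rw [← Module.End.mul_apply, ← sq, ← Nat.add_sub_cancel' hk2, pow_add, hXk, zero_mul, LinearMap.zero_apply]
      have h3 : B (X u) (X v) = 0 := by
        have := hskew u (X v)
        rwa [h2, map_zero, add_zero] at this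
      simp only [LinearMap.add_apply, Module.End.one_apply, map_add, h3, add_zero]
      linear_combination hskew u v
    · have hp2 : (2 : F) ≠ 0 := fun h2 => by
        have hd2 := Nat.le_of_dvd two_pos ((CharP.cast_eq_zero_iff F p 2).1 (by exact_mod_cast h2))
        omega
      obtain ⟨U, hU⟩ := (IsNilpotent.isUnit_one_sub ⟨k, hXk⟩ : IsUnit (1 - X))
      refine ⟨(1 + X) * (↑U⁻¹ : Module.End F (Fin k → F)), ?_, ?_⟩
      · have key : ∀ u v, B ((1 + X) u) ((1 + X) v) = B ((1 - X) u) ((1 - X) v) := fun u v => by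
          simp only [LinearMap.add_apply, LinearMap.sub_apply, Module.End.one_apply, map_add, map_sub]
          linear_combination 2 * hskew u v
        intro u v
        rw [Module.End.mul_apply, Module.End.mul_apply, key, ← hU, ← Module.End.mul_apply, Units.mul_inv,
          ← Module.End.mul_apply, Units.mul_inv]
        rfl
      · have e1 : (1 + X) * (↑U⁻¹ : Module.End F (Fin k → F)) - 1 = ((2 : F) • X) * ↑U⁻¹ := by
          have e0 : (1 + X) * (↑U⁻¹ : Module.End F (Fin k → F)) - (U : Module.End F (Fin k → F)) * ↑U⁻¹ =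
              (X + X) * ↑U⁻¹ := by
            rw [← sub_mul, hU, show (1 + X) - (1 - X) = X + X by abel]
          rw [Units.mul_inv] at e0
          rw [two_smul, e0]
        have hcomm : Commute ((2 : F) • X) (↑U⁻¹ : Module.End F (Fin k → F)) := by
          refine (Commute.units_inv_right ?_).smul_left _
          rw [hU]; exact (Commute.one_right X).sub_right (Commute.refl X)
        refine ⟨by rw [e1, hcomm.mul_pow, _root_.smul_pow, hXk, smul_zero, zero_mul], fun h0 => hXne ?_⟩
        rw [e1, hcomm.mul_pow, _root_.smul_pow, ← Units.val_pow_eq_pow_val, Units.mul_left_eq_zero] at h0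
        exact (smul_eq_zero.1 h0).resolve_left (pow_ne_zero _ hp2)
  have hap : (a - 1) ^ p = 0 := by
    rw [← Nat.sub_add_cancel hkp, pow_add, hak, mul_zero]
  refine ⟨B, a, hB, hP, hap, ?_⟩
  obtain ⟨μ, hμ, hsum, hrank, -⟩ := exists_blocks hB hP hak inv_top (ndon_top hB)
  rw [finrank_top, Module.finrank_fin_fun] at hsum
  have hμeq : μ = {k} := by
    obtain ⟨x, hx, hxk⟩ : ∃ x ∈ μ, k ≤ x := by
      by_contra hc
      push Not at hc
      refine hane (LinearMap.range_eq_bot.1 (Submodule.finrank_eq_zero.1 ?_))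
      rw [← Submodule.map_top, hrank, rankFn]
      exact Multiset.sum_eq_zero fun y hy => by
        obtain ⟨z, hz, rfl⟩ := Multiset.mem_map.1 hy
        have := hc z hz
        omega
    obtain ⟨μ', rfl⟩ := Multiset.exists_cons_of_mem hx
    rw [Multiset.sum_cons] at hsum
    have hxe : x = k := le_antisymm (hμ x (Multiset.mem_cons_self _ _)).2 hxk
    rcases μ'.empty_or_exists_mem with rfl | ⟨y, hy⟩
    · rw [hxe]; rfl
    · have := (hμ y (Multiset.mem_cons_of_mem hy)).1
      have := Multiset.le_sum_of_mem hy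
      omega
  intro i
  rw [← hμeq, ← Submodule.map_top, hrank]

/-- Unipotent isometries with prescribed blocks. -/
theorem exists_unip [Fintype F] {p : ℕ} [Fact p.Prime] [CharP F p] (hσ : IsInvol σ) (μ : Multiset ℕ)
    (hμ : ∀ x ∈ μ, 0 < x ∧ x ≤ p) :
    ∃ (B : (Fin μ.sum → F) →ₛₗ[σ] (Fin μ.sum → F) →ₗ[F] F) (a : Module.End F (Fin μ.sum → F)),
      IsHerm B ∧ Pres B a ∧ (a - 1) ^ p = 0 ∧ ∀ i, finrank F (LinearMap.range ((a - 1) ^ i)) = rankFn μ i := by
  induction μ using Multiset.induction with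
  | empty =>
    refine ⟨hermB _ σ, 1, hermB_isHerm hσ _, fun _ _ => rfl,
      LinearMap.ext fun x => funext fun i => absurd i.2 (by simp), fun i => ?_⟩
    haveI : Subsingleton (Fin (0 : Multiset ℕ).sum → F) := ⟨fun x y => funext fun j => absurd j.2 (by simp)⟩
    rw [Module.finrank_zero_of_subsingleton]
    simp [rankFn]
  | cons x μ ih =>
    obtain ⟨B', a', hB', hP', hp', hr'⟩ := ih fun y hy => hμ y (Multiset.mem_cons_of_mem hy)
    obtain ⟨h0, hxp⟩ := hμ x (Multiset.mem_cons_self _ _)
    obtain ⟨B1, a1, hB1, hP1, hp1, hr1⟩ := exists_jordan (p := p) hσ h0 hxp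
    let e : ((Fin x → F) × (Fin μ.sum → F)) ≃ₗ[F] (Fin (x ::ₘ μ).sum → F) := LinearEquiv.ofFinrankEq _ _ (by simp)
    set A : Module.End F ((Fin x → F) × (Fin μ.sum → F)) := a1.prodMap a'
    let a : Module.End F (Fin (x ::ₘ μ).sum → F) := (e : _ →ₗ[F] _) ∘ₗ A ∘ₗ (e.symm : _ →ₗ[F] _)
    let B : (Fin (x ::ₘ μ).sum → F) →ₛₗ[σ] (Fin (x ::ₘ μ).sum → F) →ₗ[F] F :=
      ((prodB B1 B').comp e.symm.toLinearMap).compl₂ e.symm.toLinearMap
    have hpow : ∀ i, (a - 1) ^ i =
        (e : _ →ₗ[F] _) ∘ₗ (LinearMap.prodMap ((a1 - 1) ^ i) ((a' - 1) ^ i)) ∘ₗ (e.symm : _ →ₗ[F] _) := by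
      intro i
      induction i with
      | zero => exact LinearMap.ext fun v => by simp
      | succ i ihi =>
        rw [pow_succ, ihi, pow_succ, pow_succ]
        exact LinearMap.ext fun v => by
          simp [a, A, LinearMap.sub_apply, Prod.ext_iff]
    refine ⟨B, a, ⟨hσ, fun u v => (isHerm_prodB hB1 hB').symm _ _, fun u hu => ?_⟩,
      fun u v => ?_, ?_, fun i => ?_⟩
    · refine e.symm.injective ?_
      rw [map_zero]
      exact (isHerm_prodB hB1 hB').nondeg _ fun y => by simpa [B] using hu (e y)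
    · simp only [B, a, LinearMap.compl₂_apply, LinearMap.comp_apply, LinearEquiv.coe_coe,
        LinearEquiv.symm_apply_apply]
      exact pres_prod hP1 hP' _ _
    · rw [hpow, hp1, hp']
      exact LinearMap.ext fun v => by simp
    · rw [hpow, LinearMap.range_comp, LinearEquiv.finrank_map_eq, LinearMap.range_comp_of_range_eq_top _
        (LinearEquiv.range _), LinearMap.range_prodMap, ← Multiset.singleton_add x μ, rankFn_add, ← hr1, ← hr']
      let eq : ↥((LinearMap.range ((a1 - 1) ^ i)).prod (LinearMap.range ((a' - 1) ^ i))) ≃ₗ[F]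
          ↥(LinearMap.range ((a1 - 1) ^ i)) × ↥(LinearMap.range ((a' - 1) ^ i)) :=
        { toFun := fun x => (⟨x.1.1, x.2.1⟩, ⟨x.1.2, x.2.2⟩)
          map_add' := fun _ _ => rfl
          map_smul' := fun _ _ => rfl
          invFun := fun x => ⟨(x.1.1, x.2.1), x.1.2, x.2.2⟩
          left_inv := fun _ => rfl
          right_inv := fun _ => rfl }
      rw [eq.finrank_eq, Module.finrank_prod]

end Cfsg.Agent.Classical.UnitElem
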