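import Cfsg.Agent.Classical.UnitElem.Semi
import Cfsg.Agent.Classical.UnitElem.Arith

/-!
# Invariant subspaces of isometries of odd prime order of Hermitian spaces
-/

set_option autoImplicit false

namespace Cfsg.Agent.Classical.UnitElem

open Module Polynomial
open Cfsg.Agent.Classical.Herm
open Cfsg.Agent.Classical (exists_powHom)
open Cfsg.Agent.Classical.SympElem (Inv inv_iff inv_top inv_bot fx mv inv_fx inv_mv fx_apply mem_fx inv_of_le_fx
  aeval_mv poly_facts sum_pow_apply_fixed)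

universe u v

variable {F : Type u} [Field F] [Fintype F] {σ : F →+* F} {V : Type v} [AddCommGroup V] [Module F V]
  [FiniteDimensional F V] {B : V →ₛₗ[σ] V →ₗ[F] F} {a : Module.End F V} {q r : ℕ}

theorem fixed_decomp (hB : IsHerm B) (hP : Pres B a) (hr : (r : F) ≠ 0) (har : a ^ r = 1) :
    Disjoint (fx a) (mv a) ∧ NDon B (fx a) ∧ NDon B (mv a) ∧ mv a ≤ orth B (fx a) ∧
      finrank F (fx a) + finrank F (mv a) = finrank F V := by
  have hle : mv a ≤ orth B (fx a) := by
    rintro _ ⟨y, rfl⟩ w hw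
    rw [LinearMap.sub_apply, Module.End.one_apply, map_sub, sub_eq_zero]
    conv_lhs => rw [← fx_apply hw]
    rw [hP]
  have hd : Disjoint (fx a) (mv a) := by
    rw [Submodule.disjoint_def]
    rintro x hx ⟨y, rfl⟩
    have h1 := sum_pow_apply_fixed (fx_apply hx) r
    rw [← Module.End.mul_apply, geom_sum_mul, har, sub_self, LinearMap.zero_apply, eq_comm, smul_eq_zero] at h1
    exact h1.resolve_left hr
  have hdim : finrank F (fx a) + finrank F (mv a) = finrank F V := by
    have := LinearMap.finrank_range_add_finrank_ker (a - 1)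
    rw [add_comm]; exact this
  have hsup : fx a ⊔ mv a = ⊤ := by
    refine Submodule.eq_top_of_finrank_eq ?_
    have h1 := Submodule.finrank_sup_add_finrank_inf_eq (fx a) (mv a)
    rw [hd.eq_bot, finrank_bot] at h1
    omega
  refine ⟨hd, fun x hx h0 => ?_, fun x hx h0 => ?_, hle, hdim⟩
  all_goals
    refine hB.nondeg x fun y => ?_
    obtain ⟨u, hu, v, hv, rfl⟩ := Submodule.mem_sup.1 (show y ∈ fx a ⊔ mv a by rw [hsup]; trivial)
    rw [map_add]
  · rw [h0 u hu, hle hv x hx, add_zero]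
  · rw [h0 v hv, (eq_zero_comm hB).1 (hle hx u hu), add_zero]

omit [Fintype F] in
theorem split_inv (hr : (r : F) ≠ 0) (har : a ^ r = 1) {W : Submodule F V} (hW : Inv a W) :
    W ⊓ fx a ⊔ W ⊓ mv a = W ∧
      finrank F (W ⊓ fx a : Submodule F V) + finrank F (W ⊓ mv a : Submodule F V) = finrank F W := by
  have hd : Disjoint (W ⊓ fx a) (W ⊓ mv a) := by
    refine Submodule.disjoint_def.2 fun x hx hx' => ?_
    obtain ⟨y, hy⟩ := hx'.2
    have h1 := sum_pow_apply_fixed (fx_apply hx.2) r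
    rw [← hy, ← Module.End.mul_apply, geom_sum_mul, har, sub_self, LinearMap.zero_apply, hy, eq_comm,
      smul_eq_zero] at h1
    exact h1.resolve_left hr
  have hle : W ⊓ fx a ⊔ W ⊓ mv a ≤ W := sup_le inf_le_left inf_le_left
  have h1 := Submodule.finrank_sup_add_finrank_inf_eq (W ⊓ fx a) (W ⊓ mv a)
  rw [hd.eq_bot, finrank_bot, add_zero] at h1
  have h2 := ((a - 1).domRestrict W).finrank_range_add_finrank_ker
  have h3 : finrank F (LinearMap.range ((a - 1).domRestrict W)) ≤ finrank F (W ⊓ mv a : Submodule F V) := by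
    refine Submodule.finrank_mono ?_
    rintro _ ⟨w, rfl⟩
    refine ⟨?_, ⟨w, rfl⟩⟩
    show (a - 1) (w : V) ∈ W
    rw [LinearMap.sub_apply, Module.End.one_apply]
    exact W.sub_mem (hW _ w.2) w.2
  have h4 : finrank F (LinearMap.ker ((a - 1).domRestrict W)) ≤ finrank F (W ⊓ fx a : Submodule F V) := by
    rw [← finrank_lift]
    refine Submodule.finrank_mono ?_
    rintro _ ⟨w, hw, rfl⟩
    exact ⟨w.2, hw⟩
  have heq : W ⊓ fx a ⊔ W ⊓ mv a = W := Submodule.eq_of_le_of_finrank_le hle (by omega)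
  rw [heq] at h1
  exact ⟨heq, h1.symm⟩

/-- The standing hypotheses at an odd prime. -/
structure OddPrime (σ : F →+* F) (q r : ℕ) : Prop where
  invol : IsInvol σ
  card : Fintype.card F = q ^ 2
  pow : ∀ x : F, σ x = x ^ q
  prime : r.Prime
  ne_two : r ≠ 2
  ne_zero : (r : F) ≠ 0

theorem OddPrime.not_dvd [Fact r.Prime] (h : OddPrime σ q r) : (q : ZMod r) ≠ 0 := fun h0 => by
  have hd : r ∣ Fintype.card F := by
    rw [h.card]; exact dvd_pow ((ZMod.natCast_eq_zero_iff _ _).1 h0) two_ne_zero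
  obtain ⟨p, hp⟩ := CharP.exists F
  haveI := hp
  obtain ⟨k, hpp, hk⟩ := FiniteField.card F p
  rw [hk] at hd
  exact h.ne_zero (by rw [(Nat.prime_dvd_prime_iff_eq h.prime hpp).1 (h.prime.dvd_of_dvd_pow hd)];
                      exact CharP.cast_eq_zero F p)

theorem OddPrime.card_eq [Fact r.Prime] (h : OddPrime σ q r) :
    orderOf (Fintype.card F : ZMod r) = orderOf ((q : ZMod r) ^ 2) := by
  rw [h.card, Nat.cast_pow]

theorem OddPrime.fix_card (h : OddPrime σ q r) : Nat.card (fixField σ) = q := by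
  obtain ⟨τ, hτ, -, hq, -⟩ := exists_powHom h.card
  have : σ = τ := RingHom.ext fun x => by rw [h.pow, hτ]
  rw [this]; exact hq

theorem OddPrime.one_lt (h : OddPrime σ q r) : 1 < q := by
  obtain ⟨τ, -, -, -, hq⟩ := exists_powHom h.card
  exact hq

variable [Fact r.Prime]

/-- A moved invariant subspace of small dimension is degenerate unless `-q` has small order. -/
theorem order_neg_le (h : OddPrime σ q r) (hB : IsHerm B) (hP : Pres B a) (har : a ^ r = 1) {U : Submodule F V}
    (hU : Inv a U) (hN : NDon B U) (hne : U ≠ ⊥) (hfree : ∀ x ∈ U, a x = x → x = 0) :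
    orderOf (-(q : ZMod r)) ≤ finrank F U := by
  have hB' := isHerm_restr hB hN
  have hinj : Function.Injective (a.restrict hU) := (pres_restrict hP hU).injective hB'
  let g : U ≃ₗ[F] U := LinearEquiv.ofBijective (a.restrict hU) ⟨hinj, LinearMap.surjective_of_injective hinj⟩
  have hpow : ∀ (k : ℕ) (x : U), (((g ^ k) x : U) : V) = (a ^ k) (x : V) := by
    intro k
    induction k with
    | zero => intro x; rfl
    | succ k ih =>
      intro x
      rw [pow_succ', pow_succ', LinearEquiv.mul_apply, Module.End.mul_apply, ← ih]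
      rfl
  have hgr : g ^ r = 1 := LinearEquiv.ext fun x => Subtype.ext (by rw [hpow, har]; rfl)
  have hg1 : g ≠ 1 := fun h1 => hne ((Submodule.eq_bot_iff _).2 fun x hx => hfree x hx
    (by have := hpow 1 ⟨x, hx⟩; rw [pow_one, pow_one, h1] at this; exact this.symm))
  have hord := HermPair.orderOf_dvd_of_space h.invol h.pow h.fix_card hB' g (fun x y => hP _ _)
  rw [orderOf_eq_prime hgr hg1] at hord
  obtain ⟨j, hj, hj'⟩ := (h.prime.prime.dvd_finsetProd_iff _).1 hord
  have hrq : ¬ r ∣ q := fun hd => h.not_dvd ((ZMod.natCast_eq_zero_iff _ _).2 hd)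
  rw [HermPair.dvd_factor_iff h.one_lt hrq] at hj'
  have := Finset.mem_range.1 hj
  have := Nat.le_of_dvd (by omega) (orderOf_dvd_of_pow_eq_one hj')
  omega

/-- The blocks inside the moved space. -/
theorem mv_blocks (h : OddPrime σ q r) (hB : IsHerm B) (hP : Pres B a) (har : a ^ r = 1) :
    orderOf (-(q : ZMod r)) ∣ finrank F (mv a) ∧
      (∀ A, orderOf (-(q : ZMod r)) * A ≤ finrank F (mv a) →
        ∃ W : Submodule F V, W ≤ mv a ∧ Inv a W ∧ NDon B W ∧ finrank F W = orderOf (-(q : ZMod r)) * A) ∧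
      (∀ A, (2 * orderOf ((q : ZMod r) ^ 2) * A ≤ finrank F (mv a) ∧
          orderOf (-(q : ZMod r)) = 2 * orderOf ((q : ZMod r) ^ 2)) ∨ A = 0 ∨
          (orderOf (-(q : ZMod r)) = orderOf ((q : ZMod r) ^ 2) ∧
            r - 1 + 2 * orderOf ((q : ZMod r) ^ 2) * A < finrank F (mv a) + 2 * orderOf ((q : ZMod r) ^ 2)) →
        ∃ W : Submodule F V, W ≤ mv a ∧ Inv a W ∧ TI B W ∧ finrank F W = orderOf ((q : ZMod r) ^ 2) * A) ∧
      (∀ W : Submodule F V, W ≤ mv a → Inv a W → orderOf ((q : ZMod r) ^ 2) ∣ finrank F W ∧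
        (NDon B W → orderOf (-(q : ZMod r)) ∣ finrank F W)) := by
  obtain ⟨hd, -, hNm, -, -⟩ := fixed_decomp hB hP h.ne_zero har
  have hB' := isHerm_restr hB hNm
  have hP' := pres_restrict hP (inv_mv (a := a))
  obtain ⟨hsf, hAll, hdeg, hb0, -⟩ := poly_facts (F := F) (r := r) h.ne_zero
  rw [h.card_eq] at hAll hb0
  set b := orderOf ((q : ZMod r) ^ 2)
  set c := orderOf (-(q : ZMod r))
  have hag : aeval (a.restrict (inv_mv (a := a))) (cyclotomic r F) = 0 := aeval_mv har
  have hfree : ∀ x ∈ mv a, a x = x → x = 0 := fun x hx hax => Submodule.disjoint_def.1 hd x (mem_fx hax) hx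
  have htop : finrank F (⊤ : Submodule F (mv a)) = finrank F (mv a) := finrank_top F _
  have hblock : ∀ W : Submodule F V, W ≤ mv a → Inv a W → b ∣ finrank F W := fun W hle hW => by
    rw [← (Submodule.comapSubtypeEquivOfLe hle).finrank_eq]
    exact (blocks_in (a := a.restrict (inv_mv (a := a))) (W := W.comap (mv a).subtype) (fun x hx => hW _ hx) hsf hag hAll).1
  have hlift : ∀ {c' t' A : ℕ},
      (∃ P T : Submodule F (mv a), P ≤ ⊤ ∧ T ≤ P ∧ Inv (a.restrict (inv_mv (a := a))) P ∧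
        NDon (restr B (mv a)) P ∧ finrank F P = c' * A ∧ Inv (a.restrict (inv_mv (a := a))) T ∧
        TI (restr B (mv a)) T ∧ finrank F T = t' * A) →
      (∃ W : Submodule F V, W ≤ mv a ∧ Inv a W ∧ NDon B W ∧ finrank F W = c' * A) ∧
        (∃ W : Submodule F V, W ≤ mv a ∧ Inv a W ∧ TI B W ∧ finrank F W = t' * A) := by
    rintro c' t' A ⟨P, T, -, -, hPi, hPn, hPd, hTi, hTt, hTd⟩
    exact ⟨⟨_, lift_le P, inv_lift hPi, ndon_lift hPn, (finrank_lift P).trans hPd⟩,
      ⟨_, lift_le T, inv_lift hTi, ti_lift hTt, (finrank_lift T).trans hTd⟩⟩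
  rcases (block_cases h.ne_two h.not_dvd).2 with ⟨-, hodd, hcb, hqb⟩ | ⟨-, hcb⟩
  · change c = b at hcb
    have hS : SelfInv σ (a.restrict (inv_mv (a := a))) (cyclotomic r F) q b := by
      refine ⟨h.card, h.pow, hodd, hAll, hsf, hag, LinearMap.ext fun x => Subtype.ext ?_⟩
      have hdvd : r ∣ q ^ b + 1 := by
        rw [← ZMod.natCast_eq_zero_iff, Nat.cast_add, Nat.cast_pow, Nat.cast_one, hqb, neg_add_cancel]
      obtain ⟨l, hl⟩ := hdvd
      rw [Module.End.pow_restrict _ (fun y hy => inv_mv (a := a) y hy), hl]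
      show (a ^ (r * l)) (x : V) = x
      rw [pow_mul, har, one_pow]; rfl
    have hstep := fun (W : Submodule F (mv a)) hW hN (hlt : 0 < finrank F W) =>
      step_nd hB' hP' hS hW hN hlt
    refine ⟨hcb ▸ hblock _ le_rfl inv_mv, fun A hA => ?_, fun A hA => ?_,
      fun W hle hW => ⟨hblock W hle hW, fun _ => hcb ▸ hblock W hle hW⟩⟩
    · rw [hcb] at hA ⊢
      exact (hlift (chain hB' hP' hstep A inv_top (ndon_top hB') (Or.inr (by omega)))).1
    · refine (hlift (chain hB' hP' (fun W hW hN hlt => step_ti hB' hP' hS hW hN hlt) A inv_top (ndon_top hB') ?_)).2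
      rcases hA with ⟨-, h2⟩ | h2 | ⟨-, h2⟩
      · omega
      · exact Or.inl h2
      · exact Or.inr (by rw [hdeg, htop]; exact h2)
  · change c = 2 * b at hcb
    have hno : ∀ U : Submodule F (mv a), Inv (a.restrict (inv_mv (a := a))) U → finrank F U = b →
        ¬ NDon (restr B (mv a)) U := fun U hU hUd hUn => by
      have := order_neg_le h hB hP har (inv_lift hU) (ndon_lift hUn)
        (fun h0 => by have := finrank_lift U; rw [h0, finrank_bot] at this; omega)
        (fun x hx => hfree x (lift_le U hx))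
      rw [finrank_lift] at this
      omega
    have hstep := fun (W : Submodule F (mv a)) hW hN (hlt : 0 < finrank F W) =>
      step_pair hB' hP' hb0 hsf hag hAll hno hW hN hlt
    have hdvd : ∀ W : Submodule F (mv a), Inv (a.restrict (inv_mv (a := a))) W → NDon (restr B (mv a)) W →
        c ∣ finrank F W := fun W hW hN => hcb ▸ two_mul_dvd hB' hP' hb0 hsf hag hAll hno hW hN
    refine ⟨htop ▸ hdvd ⊤ inv_top (ndon_top hB'), fun A hA => ?_, fun A hA => ?_,
      fun W hle hW => ⟨hblock W hle hW, fun hN => ?_⟩⟩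
    · rw [hcb] at hA ⊢
      exact (hlift (chain hB' hP' hstep A inv_top (ndon_top hB') (Or.inr (by rw [htop]; omega)))).1
    · refine (hlift (chain hB' hP' hstep A inv_top (ndon_top hB') ?_)).2
      rcases hA with ⟨h2, -⟩ | h2 | ⟨h2, -⟩
      · exact Or.inr (by rw [htop]; omega)
      · exact Or.inl h2
      · omega
    · rw [← (Submodule.comapSubtypeEquivOfLe hle).finrank_eq]
      exact hdvd _ (fun x hx => hW _ hx) fun x hx h0 => Subtype.ext (hN _ hx fun v hv => h0 ⟨v, hle hv⟩ hv)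

/-- Existence of a totally isotropic invariant subspace. -/
theorem exists_prime_ti (h : OddPrime σ q r) (hB : IsHerm B) (hP : Pres B a) (har : a ^ r = 1) {n m : ℕ}
    (hn : finrank F V = n) (hmn : 2 * m ≤ n)
    (hk : 2 * (m % orderOf ((q : ZMod r) ^ 2)) ≤ n % orderOf (-(q : ZMod r)))
    (hs : orderOf (-(q : ZMod r)) = 2 * orderOf ((q : ZMod r) ^ 2) ∨
      (r - 1) / orderOf ((q : ZMod r) ^ 2) + 2 * (m / orderOf ((q : ZMod r) ^ 2)) ≤
        n / orderOf ((q : ZMod r) ^ 2)) :
    ∃ W : Submodule F V, Inv a W ∧ TI B W ∧ finrank F W = m := by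
  obtain ⟨hd, hNf, -, horth, hdim⟩ := fixed_decomp hB hP h.ne_zero har
  obtain ⟨hcd, -, hti, -⟩ := mv_blocks h hB hP har
  obtain ⟨hb0, hcases⟩ := block_cases h.ne_two h.not_dvd
  set b := orderOf ((q : ZMod r) ^ 2)
  set c := orderOf (-(q : ZMod r))
  set e := finrank F (fx a)
  set M := finrank F (mv a)
  obtain ⟨N, hN⟩ := hcd
  change M = c * N at hN
  have hmm := Nat.mod_add_div m b
  have hec : n % c ≤ e := by
    rw [show n = e + c * N by omega, Nat.add_mul_mod_self_left]; exact Nat.mod_le _ _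
  suffices ∃ A, b * A ≤ m ∧ 2 * (m - b * A) ≤ e ∧ ((2 * b * A ≤ M ∧ c = 2 * b) ∨ A = 0 ∨
      (c = b ∧ r - 1 + 2 * b * A < M + 2 * b)) by
    obtain ⟨A, h1, h2, h3⟩ := this
    obtain ⟨W1, hW1, hi1, ht1, hd1⟩ := hti A h3
    obtain ⟨W0, hW0, ht0, hd0⟩ := exists_ti_le hB hNf h2
    have hor : W0 ≤ orth B W1 := fun x hx w hw => (eq_zero_comm hB).1 (horth (hW1 hw) x (hW0 hx))
    refine ⟨W0 ⊔ W1, (inv_of_le_fx hW0).sup hi1, ti_sup hB ht0 ht1 hor, ?_⟩
    have h4 := Submodule.finrank_sup_add_finrank_inf_eq W0 W1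
    rw [(hd.mono hW0 hW1).eq_bot, finrank_bot, hd0, hd1] at h4
    omega
  rcases hcases with ⟨-, -, hcb, -⟩ | ⟨-, hcb⟩
  · have hbdvd : b ∣ r - 1 := by
      rw [show b = orderOf (Fintype.card F : ZMod r) from h.card_eq.symm]
      exact (poly_facts (F := F) h.ne_zero).2.2.2.2
    obtain ⟨s, hs'⟩ := hbdvd
    have hs2 : s + 2 * (m / b) ≤ n / b := by
      have := hs.resolve_left (by omega)
      rwa [hs', Nat.mul_div_cancel_left _ hb0] at this
    refine ⟨min ((N + 1 - s) / 2) (m / b), ?_, ?_, ?_⟩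
    · have := Nat.mul_le_mul_left b (min_le_right ((N + 1 - s) / 2) (m / b))
      omega
    · rcases le_total ((N + 1 - s) / 2) (m / b) with hle | hle
      · rw [min_eq_left hle]
        have h5 := Nat.mul_le_mul_left b (show N ≤ s + 2 * ((N + 1 - s) / 2) by omega)
        rw [Nat.mul_add, Nat.mul_left_comm] at h5
        have h6 := Nat.mul_le_mul_left b hs2
        rw [Nat.mul_add, Nat.mul_left_comm] at h6
        rw [hcb] at hN hk
        have h7 := Nat.mod_add_div n b
        omega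
      · rw [min_eq_right hle]
        omega
    · rcases Nat.eq_zero_or_pos (min ((N + 1 - s) / 2) (m / b)) with h0 | h0
      · exact Or.inr (Or.inl h0)
      · refine Or.inr (Or.inr ⟨hcb, ?_⟩)
        have h8 : s + 2 * min ((N + 1 - s) / 2) (m / b) < N + 2 := by omega
        have h9 := Nat.mul_lt_mul_of_pos_left h8 hb0
        rw [Nat.mul_add, Nat.mul_add, ← mul_assoc b 2, mul_comm b 2] at h9
        rw [hcb] at hN
        omega
  · refine ⟨min N (m / b), ?_, ?_, Or.inl ⟨?_, hcb⟩⟩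
    · have := Nat.mul_le_mul_left b (min_le_right N (m / b))
      omega
    · rw [hcb, mul_assoc] at hN
      rcases le_total N (m / b) with hle | hle
      · rw [min_eq_left hle]; omega
      · rw [min_eq_right hle]; omega
    · rw [hN, hcb]
      exact Nat.mul_le_mul_left _ (min_le_left _ _)

/-- Existence of a non-degenerate invariant subspace. -/
theorem exists_prime_nd (h : OddPrime σ q r) (hB : IsHerm B) (hP : Pres B a) (har : a ^ r = 1) {n m : ℕ}
    (hn : finrank F V = n) (hmn : m ≤ n)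
    (hk : m % orderOf (-(q : ZMod r)) ≤ n % orderOf (-(q : ZMod r))) :
    ∃ W : Submodule F V, Inv a W ∧ NDon B W ∧ finrank F W = m := by
  obtain ⟨hd, hNf, -, horth, hdim⟩ := fixed_decomp hB hP h.ne_zero har
  obtain ⟨hcd, hnd, -, -⟩ := mv_blocks h hB hP har
  set c := orderOf (-(q : ZMod r))
  set e := finrank F (fx a)
  obtain ⟨N, hN⟩ := hcd
  change finrank F (mv a) = c * N at hN
  have hmm := Nat.mod_add_div m c
  have hec : n % c ≤ e := by
    rw [show n = e + c * N by omega, Nat.add_mul_mod_self_left]; exact Nat.mod_le _ _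
  obtain ⟨W1, hW1, hi1, hn1, hd1⟩ := hnd (min N (m / c))
    (by rw [hN]; exact Nat.mul_le_mul_left _ (min_le_left _ _))
  have he : m - c * min N (m / c) ≤ e ∧ c * min N (m / c) ≤ m := by
    rcases le_total N (m / c) with hle | hle
    · rw [min_eq_left hle]
      have := Nat.mul_le_mul_left c hle
      omega
    · rw [min_eq_right hle]; omega
  obtain ⟨W0, hW0, hn0, hd0⟩ := exists_nd_le hB hNf he.1
  have hor : W0 ≤ orth B W1 := fun x hx w hw => (eq_zero_comm hB).1 (horth (hW1 hw) x (hW0 hx))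
  refine ⟨W0 ⊔ W1, (inv_of_le_fx hW0).sup hi1, ndon_sup hB hn0 hn1 hor, ?_⟩
  have h4 := Submodule.finrank_sup_add_finrank_inf_eq W0 W1
  rw [(hd.mono hW0 hW1).eq_bot, finrank_bot, hd0, hd1] at h4
  omega

/-- The dimensions of the two parts of an invariant subspace. -/
theorem parts (h : OddPrime σ q r) (hB : IsHerm B) (hP : Pres B a) (har : a ^ r = 1) {W : Submodule F V}
    (hW : Inv a W) :
    (TI B W → ∃ k j, finrank F W = k + orderOf ((q : ZMod r) ^ 2) * j ∧ 2 * k ≤ finrank F (fx a) ∧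
      finrank F (W ⊓ mv a : Submodule F V) = orderOf ((q : ZMod r) ^ 2) * j) ∧
      (NDon B W → ∃ k j, finrank F W = k + orderOf (-(q : ZMod r)) * j ∧ k ≤ finrank F (fx a)) := by
  obtain ⟨-, hNf, -, horth, -⟩ := fixed_decomp hB hP h.ne_zero har
  obtain ⟨hsup, hsum⟩ := split_inv h.ne_zero har hW
  obtain ⟨-, -, -, hdiv⟩ := mv_blocks h hB hP har
  obtain ⟨hb, hc⟩ := hdiv (W ⊓ mv a) inf_le_right (hW.inf inv_mv)
  refine ⟨fun hT => ?_, fun hN => ?_⟩
  · obtain ⟨j, hj⟩ := hb
    exact ⟨_, j, by rw [← hsum, hj], two_mul_le_of_ti hB hNf inf_le_right fun u hu v hv => hT u hu.1 v hv.1, hj⟩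
  · have hNm : NDon B (W ⊓ mv a) := fun x hx h0 => hN x hx.1 fun y hy => by
      rw [← hsup] at hy
      obtain ⟨y1, hy1, y2, hy2, rfl⟩ := Submodule.mem_sup.1 hy
      rw [map_add, (eq_zero_comm hB).1 (horth hx.2 y1 hy1.2), h0 y2 hy2, add_zero]
    obtain ⟨j, hj⟩ := hc hNm
    exact ⟨_, j, by rw [← hsum, hj], Submodule.finrank_mono inf_le_right⟩

end Cfsg.Agent.Classical.UnitElem
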