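import Cfsg.Agent.Classical.UnitElem.Basic

/-!
# Semisimple isometries of Hermitian spaces: invariant non-degenerate and totally isotropic blocks

If all irreducible factors of the annihilating polynomial have degree `D` and `a ^ (q ^ D + 1) = 1` with `D` odd,
minimal invariant subspaces with a non-zero form are non-degenerate of dimension `D`, and two of them with the
same factor contain a totally isotropic one.  If no invariant subspace of dimension `D` is non-degenerate,
blocks come in hyperbolic pairs of dimension `2 D`.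
-/

set_option autoImplicit false

namespace Cfsg.Agent.Classical.UnitElem

open Module Polynomial
open Cfsg.Agent.Classical.Herm
open Cfsg.Agent.Classical.SympElem (Inv inv_iff inv_top inv_bot inv_ker cyc cyc_props aeval_mem exists_compl AllDeg blocks)
open Cfsg.Agent.Classical (exists_powHom)
open Cfsg.Agent.MatModule (finite_adjoinRoot)

universe u v

variable {F : Type u} [Field F] [Fintype F] {σ : F →+* F} {V : Type v} [AddCommGroup V] [Module F V]
  [FiniteDimensional F V] {B : V →ₛₗ[σ] V →ₗ[F] F} {a : Module.End F V} {q D : ℕ} {g : F[X]}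

/-- The self-inverse situation. -/
structure SelfInv (σ : F →+* F) (a : Module.End F V) (g : F[X]) (q D : ℕ) : Prop where
  card : Fintype.card F = q ^ 2
  pow : ∀ x : F, σ x = x ^ q
  odd : Odd D
  deg : AllDeg g D
  sqf : Squarefree g
  ann : aeval a g = 0
  inv : a ^ (q ^ D + 1) = 1

omit [Fintype F] [FiniteDimensional F V] in
theorem pres_pow (hP : Pres B a) {M : ℕ} (hM : a ^ (M + 1) = 1) (k : ℕ) (x y : V) :
    B ((a ^ k) x) y = B x (((a ^ M) ^ k) y) := by
  induction k generalizing y with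
  | zero => simp
  | succ k ih =>
    have hy : y = a ((a ^ M) y) := by rw [← Module.End.mul_apply, ← pow_succ', hM, Module.End.one_apply]
    rw [pow_succ' a k, Module.End.mul_apply]
    conv_lhs => rw [hy]
    rw [hP, ih, pow_succ (a ^ M) k, Module.End.mul_apply]

omit [Fintype F] [FiniteDimensional F V] in
theorem pres_aeval (hP : Pres B a) {M : ℕ} (hM : a ^ (M + 1) = 1) (h : F[X]) (x y : V) :
    B (aeval a h x) y = B x (aeval a ((h.map σ).comp (X ^ M)) y) := by
  rw [aeval_comp, map_pow, aeval_X]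
  induction h using Polynomial.induction_on' with
  | add f g hf hg => simp [map_add, Polynomial.map_add, hf, hg]
  | monomial k c =>
    rw [Polynomial.map_monomial, aeval_monomial, aeval_monomial, Module.End.mul_apply, Module.End.mul_apply,
      Module.algebraMap_end_apply, Module.algebraMap_end_apply, map_smulₛₗ, LinearMap.smul_apply,
      pres_pow hP hM, map_smul]

theorem card_adjoinRoot {f : F[X]} (hf : f.Monic) : Nat.card (AdjoinRoot f) = Fintype.card F ^ f.natDegree := by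
  haveI := finite_adjoinRoot f hf
  rw [Module.natCard_eq_pow_finrank (K := F), Nat.card_eq_fintype_card, (AdjoinRoot.powerBasis' hf).finrank,
    AdjoinRoot.powerBasis'_dim]

omit [FiniteDimensional F V] in
/-- Conjugation on the field of a self-inverse factor. -/
theorem pow_mk (hS : SelfInv σ a g q D) {f : F[X]} [Fact (Irreducible f)] (hf : f.Monic)
    (hd : f.natDegree = D) :
    ∃ τ : AdjoinRoot f →+* AdjoinRoot f, IsInvol τ ∧
      ∀ h : F[X], τ (AdjoinRoot.mk f h) = AdjoinRoot.mk f ((h.map σ).comp (X ^ q ^ D)) := by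
  haveI := finite_adjoinRoot f hf
  haveI : Fintype (AdjoinRoot f) :=
    haveI : Finite (AdjoinRoot f) := Module.finite_of_finite F
    Fintype.ofFinite _
  obtain ⟨τ, hτ, hinv, -, -⟩ := exists_powHom (F := AdjoinRoot f) (q := q ^ D) (by
    rw [← Nat.card_eq_fintype_card, card_adjoinRoot hf, hd, hS.card, ← pow_mul, ← pow_mul, mul_comm])
  refine ⟨τ, hinv, fun h => ?_⟩
  have hc : ∀ c : F, c ^ q ^ D = σ c := fun c => by
    obtain ⟨j, hj⟩ := hS.odd
    rw [hS.pow, hj, pow_succ, pow_mul, pow_mul, ← hS.card, FiniteField.pow_card_pow]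
  induction h using Polynomial.induction_on' with
  | add f g hf hg => simp [map_add, Polynomial.map_add, add_comp, hf, hg]
  | monomial k c =>
    rw [Polynomial.map_monomial, monomial_comp, ← C_mul_X_pow_eq_monomial]
    simp only [map_mul, map_pow, AdjoinRoot.mk_C, AdjoinRoot.mk_X, hτ]
    rw [mul_pow, ← map_pow (AdjoinRoot.of f), hc, pow_right_comm]

omit [Fintype F] [FiniteDimensional F V] in
theorem aeval_congr {f h h' : F[X]} (he : AdjoinRoot.mk f h = AdjoinRoot.mk f h') {u : V}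
    (hu : aeval a f u = 0) : aeval a h u = aeval a h' u := by
  obtain ⟨s, hs⟩ := AdjoinRoot.mk_eq_mk.1 he
  rw [← sub_eq_zero, ← LinearMap.sub_apply, ← map_sub, hs, mul_comm, map_mul, Module.End.mul_apply, hu, map_zero]

omit [Fintype F] [FiniteDimensional F V] in
theorem mem_ker_aeval (f : F[X]) : Inv a (LinearMap.ker (aeval a f)) := inv_ker (by
  show Commute (aeval a f) a
  have := ((Commute.all f X).map (aeval a).toRingHom)
  simpa using this)

/-- The kernel of a factor inside a non-degenerate invariant subspace is non-degenerate. -/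
theorem ndon_ker (hB : IsHerm B) (hP : Pres B a) (hS : SelfInv σ a g q D) {f : F[X]} (hf : f.Monic)
    (hirr : Irreducible f) (hfg : f ∣ g) {W : Submodule F V} (hW : Inv a W) (hN : NDon B W) :
    NDon B (W ⊓ LinearMap.ker (aeval a f)) := by
  haveI := Fact.mk hirr
  obtain ⟨τ, -, hτ⟩ := pow_mk hS hf (hS.deg f hf hirr hfg)
  obtain ⟨g', hg'⟩ := hfg
  intro x hx h0
  refine hN x hx.1 fun y hy => ?_
  have hfx : aeval a f x = 0 := LinearMap.mem_ker.1 hx.2
  obtain ⟨s, t, hst⟩ : IsCoprime f g' := hirr.coprime_iff_not_dvd.2 fun ⟨k, hk⟩ =>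
    hirr.not_isUnit (hS.sqf f ⟨k, by rw [hg', hk, mul_assoc]⟩)
  have hy' : y = aeval a f (aeval a s y) + aeval a (t * g') y := by
    rw [← Module.End.mul_apply, ← map_mul, ← LinearMap.add_apply, ← map_add, mul_comm f s, hst, map_one,
      Module.End.one_apply]
  rw [hy', map_add]
  have h1 : B x (aeval a f (aeval a s y)) = 0 := by
    rw [eq_zero_comm hB, pres_aeval hP hS.inv,
      aeval_congr (h' := (0 : F[X])) (by rw [← hτ, AdjoinRoot.mk_self, map_zero, map_zero]) hfx]
    simp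
  rw [h1, zero_add]
  refine h0 _ ⟨aeval_mem hW _ hy, LinearMap.mem_ker.2 ?_⟩
  rw [← Module.End.mul_apply, ← map_mul, show f * (t * g') = t * g by rw [hg']; ring, map_mul,
    Module.End.mul_apply, hS.ann]
  simp

theorem ti_or_ndon (hB : IsHerm B) (hP : Pres B a) {U : Submodule F V} (hU : Inv a U)
    (hmin : ∀ W : Submodule F V, Inv a W → W ≤ U → W ≠ ⊥ → W = U) : TI B U ∨ NDon B U := by
  by_cases h : U ⊓ orth B U = ⊥
  · right
    intro x hx h0
    have hm : x ∈ U ⊓ orth B U := ⟨hx, fun w hw => (eq_zero_comm hB).1 (h0 w hw)⟩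
    rwa [h, Submodule.mem_bot] at hm
  · left
    have := inf_eq_left.1 (hmin _ (hU.inf (inv_orth hB hP hU)) inf_le_left h)
    exact fun x hx y hy => this hy x hx

/-- A non-degenerate block through a prescribed factor. -/
theorem exists_nd_block_ker (hB : IsHerm B) (hP : Pres B a) (hS : SelfInv σ a g q D) {f : F[X]} (hf : f.Monic)
    (hirr : Irreducible f) (hfg : f ∣ g) {W : Submodule F V} (hW : Inv a W) (hN : NDon B W)
    (h0 : W ⊓ LinearMap.ker (aeval a f) ≠ ⊥) :
    ∃ u ∈ W ⊓ LinearMap.ker (aeval a f), u ≠ 0 ∧ cyc a u D ≤ W ⊓ LinearMap.ker (aeval a f) ∧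
      Inv a (cyc a u D) ∧ NDon B (cyc a u D) ∧ finrank F (cyc a u D) = D := by
  have hK := ndon_ker hB hP hS hf hirr hfg hW hN
  have hKi : Inv a (W ⊓ LinearMap.ker (aeval a f)) := hW.inf (mem_ker_aeval f)
  obtain ⟨x, hx, hx0⟩ := Submodule.exists_mem_ne_zero_of_ne_bot h0
  obtain ⟨y, hy, hxy⟩ := ndon_iff.1 hK x hx hx0
  obtain ⟨u, hu, huu⟩ := exists_anisotropic hB _ ⟨x, hx, y, hy, hxy⟩
  have hu0 : u ≠ 0 := fun h => huu (by rw [h]; simp)
  have hd := hS.deg f hf hirr hfg
  obtain ⟨hci, hcd, hcm⟩ := cyc_props hf hirr hu0 (LinearMap.mem_ker.1 hu.2)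
  rw [hd] at hci hcd hcm
  have hmem : u ∈ cyc a u D := Submodule.subset_span ⟨⟨0, hS.odd.pos⟩, by simp⟩
  refine ⟨u, hu, hu0, Submodule.span_le.2 ?_, hci, ?_, hcd⟩
  · rintro _ ⟨j, rfl⟩
    have := aeval_mem hKi (X ^ (j : ℕ)) hu
    rwa [map_pow, aeval_X] at this
  · exact (ti_or_ndon hB hP hci hcm).resolve_left fun hT => huu (hT u hmem u hmem)

omit [Fintype F] in
theorem aeval_restrict {W : Submodule F V} (hW : Inv a W) (h : F[X]) (x : W) :
    ((aeval (a.restrict hW) h x : W) : V) = aeval a h (x : V) := by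
  induction h using Polynomial.induction_on' with
  | add f g hf hg => simp [map_add, hf, hg]
  | monomial k c =>
    rw [aeval_monomial, aeval_monomial, Module.End.mul_apply, Module.End.mul_apply,
      Module.algebraMap_end_apply, Module.algebraMap_end_apply, Submodule.coe_smul, Module.End.pow_restrict k (fun x hx => hW x hx)]
    rfl

omit [Fintype F] in
theorem blocks_in {W : Submodule F V} (hW : Inv a W) (hg : Squarefree g) (hag : aeval a g = 0) {i : ℕ}
    (hdeg : AllDeg g i) :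
    i ∣ finrank F W ∧
      (0 < finrank F W → ∃ f : F[X], f.Monic ∧ Irreducible f ∧ f ∣ g ∧
        i ≤ finrank F (W ⊓ LinearMap.ker (aeval a f) : Submodule F V)) ∧
      (g.natDegree < finrank F W → ∃ f : F[X], f.Monic ∧ Irreducible f ∧ f ∣ g ∧
        2 * i ≤ finrank F (W ⊓ LinearMap.ker (aeval a f) : Submodule F V)) := by
  have hag' : aeval (a.restrict hW) g = 0 := LinearMap.ext fun x => Subtype.ext (by
    rw [aeval_restrict, hag]; rfl)
  obtain ⟨h1, h2, h3⟩ := blocks hg hag' hdeg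
  have hle : ∀ f : F[X], finrank F (LinearMap.ker (aeval (a.restrict hW) f)) ≤
      finrank F (W ⊓ LinearMap.ker (aeval a f) : Submodule F V) := fun f => by
    rw [(Submodule.equivMapOfInjective W.subtype W.injective_subtype
      (LinearMap.ker (aeval (a.restrict hW) f))).finrank_eq]
    refine Submodule.finrank_mono ?_
    rintro _ ⟨x, hx, rfl⟩
    refine ⟨x.2, LinearMap.mem_ker.2 ?_⟩
    show aeval a f (x : V) = 0
    rw [← aeval_restrict hW, LinearMap.mem_ker.1 hx, Submodule.coe_zero]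
  exact ⟨h1, fun h => (h2 h).imp fun f ⟨e1, e2, e3, e4⟩ => ⟨e1, e2, e3, e4.trans (hle f)⟩,
    fun h => (h3 h).imp fun f ⟨e1, e2, e3, e4⟩ => ⟨e1, e2, e3, e4.trans (hle f)⟩⟩

theorem finrank_inf_orth (hB : IsHerm B) {U W : Submodule F V} (hU : NDon B U) (hle : U ≤ W) :
    finrank F U + finrank F (W ⊓ orth B U : Submodule F V) = finrank F W := by
  have h1 := Submodule.finrank_sup_add_finrank_inf_eq U (W ⊓ orth B U)
  have h2 : U ⊔ W ⊓ orth B U = W := by
    rw [inf_comm, ← sup_inf_assoc_of_le _ hle, (isCompl_orth hB hU).sup_eq_top, top_inf_eq]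
  have h3 : U ⊓ (W ⊓ orth B U) = ⊥ :=
    eq_bot_iff.2 ((inf_le_inf_left _ inf_le_right).trans (isCompl_orth hB hU).inf_eq_bot.le)
  rw [h2, h3, finrank_bot] at h1
  omega

theorem ndon_inf_orth (hB : IsHerm B) {U W : Submodule F V} (hU : NDon B U) (hN : NDon B W) (hle : U ≤ W) :
    NDon B (W ⊓ orth B U) := fun x hx h0 => hN x hx.1 fun y hy => by
  obtain ⟨y1, hy1, y2, hy2, rfl⟩ := Submodule.mem_sup.1
    (show y ∈ U ⊔ orth B U by rw [(isCompl_orth hB hU).sup_eq_top]; trivial)
  rw [map_add, (eq_zero_comm hB).1 (hx.2 y1 hy1), h0 y2 ⟨by simpa using W.sub_mem hy (hle hy1), hy2⟩, add_zero]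

theorem step_nd (hB : IsHerm B) (hP : Pres B a) (hS : SelfInv σ a g q D) {W : Submodule F V} (hW : Inv a W)
    (hN : NDon B W) (h : 0 < finrank F W) :
    ∃ P T : Submodule F V, P ≤ W ∧ T ≤ P ∧ Inv a P ∧ NDon B P ∧ finrank F P = D ∧ Inv a T ∧ TI B T ∧
      finrank F T = 0 := by
  obtain ⟨f, hf, hirr, hfg, hD⟩ := (blocks_in hW hS.sqf hS.ann hS.deg).2.1 h
  obtain ⟨u, -, -, h1, h2, h3, h4⟩ := exists_nd_block_ker hB hP hS hf hirr hfg hW hN
    (fun h0 => by rw [h0, finrank_bot] at hD; have := hS.odd.pos; omega)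
  exact ⟨_, ⊥, h1.trans inf_le_left, bot_le, h2, h3, h4, inv_bot, ti_bot, finrank_bot F V⟩

/-- Two non-degenerate blocks with the same factor contain a totally isotropic one. -/
theorem step_ti (hB : IsHerm B) (hP : Pres B a) (hS : SelfInv σ a g q D) {W : Submodule F V} (hW : Inv a W)
    (hN : NDon B W) (h : g.natDegree < finrank F W) :
    ∃ P T : Submodule F V, P ≤ W ∧ T ≤ P ∧ Inv a P ∧ NDon B P ∧ finrank F P = 2 * D ∧ Inv a T ∧ TI B T ∧
      finrank F T = D := by
  obtain ⟨f, hf, hirr, hfg, hD⟩ := (blocks_in hW hS.sqf hS.ann hS.deg).2.2 h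
  have hD0 := hS.odd.pos
  have hd := hS.deg f hf hirr hfg
  have hKi : Inv a (W ⊓ LinearMap.ker (aeval a f)) := hW.inf (mem_ker_aeval f)
  have hK := ndon_ker hB hP hS hf hirr hfg hW hN
  obtain ⟨u1, hu1, hu10, hle1, hi1, hn1, hd1⟩ := exists_nd_block_ker hB hP hS hf hirr hfg hW hN
    (fun h0 => by rw [h0, finrank_bot] at hD; omega)
  set W' := (W ⊓ LinearMap.ker (aeval a f)) ⊓ orth B (cyc a u1 D) with hW'
  have h0' : W' ⊓ LinearMap.ker (aeval a f) ≠ ⊥ := fun h0 => by
    rw [inf_eq_left.2 (show W' ≤ LinearMap.ker (aeval a f) from inf_le_left.trans inf_le_right)] at h0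
    have := finrank_inf_orth hB hn1 hle1
    rw [← hW', h0, finrank_bot] at this
    omega
  obtain ⟨u2, hu2, hu20, hle2, hi2, hn2, hd2⟩ := exists_nd_block_ker hB hP hS hf hirr hfg
    (hKi.inf (inv_orth hB hP hi1)) (ndon_inf_orth hB hn1 hK hle1) h0'
  have hor : cyc a u2 D ≤ orth B (cyc a u1 D) := hle2.trans (inf_le_left.trans inf_le_right)
  have hk1 : aeval a f u1 = 0 := LinearMap.mem_ker.1 hu1.2
  have hk2 : aeval a f u2 = 0 := LinearMap.mem_ker.1 hu2.2
  have hmem : ∀ {u : V}, u ∈ cyc a u D := fun {u} => Submodule.subset_span ⟨⟨0, hD0⟩, by simp⟩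
  haveI := Fact.mk hirr
  haveI := finite_adjoinRoot f hf
  haveI : Finite (AdjoinRoot f) := Module.finite_of_finite F
  haveI : FiniteDimensional F (AdjoinRoot f) := Module.Finite.of_finite
  obtain ⟨τ, hτi, hτ⟩ := pow_mk hS hf hd
  -- moments of a vector killed by `f`
  let ℓ : V → AdjoinRoot f →ₗ[F] F := fun u =>
    ((B u).comp (LinearMap.applyₗ u)).comp
      ((aeval a).toLinearMap.comp (AdjoinRoot.modByMonicHom hf))
  have hℓ : ∀ u : V, aeval a f u = 0 → ∀ h, ℓ u (AdjoinRoot.mk f h) = B u (aeval a h u) := by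
    intro u hu h
    show B u (aeval a (AdjoinRoot.modByMonicHom hf (AdjoinRoot.mk f h)) u) = _
    rw [AdjoinRoot.modByMonicHom_mk, aeval_congr (AdjoinRoot.mk_eq_mk.2 ?_) hu]
    exact ⟨-(h /ₘ f), by linear_combination (modByMonic_add_div h f)⟩
  have hℓτ : ∀ u : V, aeval a f u = 0 → ∀ x, ℓ u (τ x) = σ (ℓ u x) := by
    intro u hu x
    obtain ⟨h, rfl⟩ := AdjoinRoot.mk_surjective x
    rw [hτ, hℓ u hu, hℓ u hu, hB.symm, pres_aeval hP hS.inv]
  have hne : ℓ u2 ≠ 0 := by
    intro h0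
    refine hu20 (hn2 u2 hmem fun v hv => ?_)
    obtain ⟨c, rfl⟩ := (Submodule.mem_span_range_iff_exists_fun F).1 hv
    rw [map_sum]
    refine Finset.sum_eq_zero fun j _ => ?_
    have := hℓ u2 hk2 (X ^ (j : ℕ))
    rw [h0, LinearMap.zero_apply, map_pow (aeval a), aeval_X] at this
    rw [map_smul, ← this, smul_zero]
  -- the functional of the first block is a twist of the second one
  let Θ : AdjoinRoot f →ₗ[F] Module.Dual F (AdjoinRoot f) :=
    (LinearMap.llcomp F _ _ F (ℓ u2)).comp (LinearMap.mul F (AdjoinRoot f))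
  have hΘ : ∀ t x, Θ t x = ℓ u2 (t * x) := fun t x => rfl
  have hΘinj : Function.Injective Θ := (injective_iff_map_eq_zero Θ).2 fun t ht => by
    by_contra ht0
    refine hne (LinearMap.ext fun x => ?_)
    have := LinearMap.congr_fun ht (t⁻¹ * x)
    rwa [hΘ, ← mul_assoc, mul_inv_cancel₀ ht0, one_mul] at this
  obtain ⟨t, ht⟩ := (LinearMap.injective_iff_surjective_of_finrank_eq_finrank
    Subspace.dual_finrank_eq.symm).1 hΘinj (ℓ u1)
  have htτ : τ t = t := by
    refine hΘinj (LinearMap.ext fun x => ?_)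
    have e : τ (t * τ x) = τ t * x := by rw [map_mul, hτi.invol]
    rw [ht, hΘ, ← e, hℓτ u2 hk2, ← hΘ, ht, hℓτ u1 hk1, hB.invol]
  obtain ⟨c, hc⟩ := exists_norm hτi (a := -t) (by rw [map_neg, htτ])
  obtain ⟨gc, hgc⟩ := AdjoinRoot.mk_surjective c
  set y := aeval a gc u2 with hy
  set w := u1 + y with hw
  have hy2 : y ∈ cyc a u2 D := aeval_mem hi2 gc hmem
  have hky : aeval a f y = 0 := by
    rw [hy, ← Module.End.mul_apply, ← map_mul, mul_comm, map_mul, Module.End.mul_apply, hk2, map_zero]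
  have hkw : aeval a f w = 0 := by rw [hw, map_add, hk1, hky, add_zero]
  have hw0 : w ≠ 0 := fun h0 => hu10 (hn1 u1 hmem fun v hv => by
    have : u1 = -y := eq_neg_of_add_eq_zero_left h0
    rw [this, map_neg, LinearMap.neg_apply, (eq_zero_comm hB).1 (hor hy2 v hv), neg_zero])
  obtain ⟨hwi, hwd, -⟩ := cyc_props hf hirr hw0 hkw
  rw [hd] at hwi hwd
  have hzero : ∀ h : F[X], B w (aeval a h w) = 0 := by
    intro h
    rw [hw, map_add, map_add, map_add, LinearMap.add_apply, LinearMap.add_apply,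
      hor (aeval_mem hi2 h hy2) u1 hmem, zero_add,
      (eq_zero_comm hB).1 (hor hy2 _ (aeval_mem hi1 h hmem)), add_zero, ← hℓ u1 hk1]
    rw [hy, ← Module.End.mul_apply, ← map_mul, pres_aeval hP hS.inv, ← Module.End.mul_apply, ← map_mul,
      ← hℓ u2 hk2, map_mul (AdjoinRoot.mk f), map_mul (AdjoinRoot.mk f), ← hτ, hgc, ← ht, hΘ, ← map_add]
    rw [show t * AdjoinRoot.mk f h + τ c * (AdjoinRoot.mk f h * c) = (t + c * τ c) * AdjoinRoot.mk f h by ring,
      hc, add_neg_cancel, zero_mul, map_zero]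
  refine ⟨cyc a u1 D ⊔ cyc a u2 D, cyc a w D,
    sup_le (hle1.trans inf_le_left) (hle2.trans (inf_le_left.trans (inf_le_left.trans inf_le_left))), ?_,
    hi1.sup hi2, ndon_sup hB hn1 hn2 (le_orth_symm hB hor), ?_, hwi, ?_, hwd⟩
  · refine Submodule.span_le.2 ?_
    rintro _ ⟨j, rfl⟩
    have := aeval_mem (hi1.sup hi2) (X ^ (j : ℕ)) (Submodule.add_mem_sup hmem hy2 : w ∈ _)
    rwa [map_pow, aeval_X] at this
  · have h1 := Submodule.finrank_sup_add_finrank_inf_eq (cyc a u1 D) (cyc a u2 D)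
    rw [(disjoint_of_orth hn1 hB (le_orth_symm hB hor)).eq_bot, finrank_bot, add_zero, hd1, hd2] at h1
    rw [h1, two_mul]
  · intro x hx z hz
    obtain ⟨cx, rfl⟩ := (Submodule.mem_span_range_iff_exists_fun F).1 hx
    obtain ⟨cz, rfl⟩ := (Submodule.mem_span_range_iff_exists_fun F).1 hz
    have hij : ∀ i j : ℕ, B ((a ^ i) w) ((a ^ j) w) = 0 := fun i j => by
      rw [pres_pow hP hS.inv, ← Module.End.mul_apply, ← pow_mul, ← pow_add]
      have := hzero (X ^ (q ^ D * i + j))
      rwa [map_pow, aeval_X] at this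
    simp [map_sum, hij]

/-- Blocks of dimension `D` are hyperbolic when none of them is non-degenerate. -/
theorem step_pair (hB : IsHerm B) (hP : Pres B a) {i : ℕ} (hi : 0 < i) (hg : Squarefree g) (hag : aeval a g = 0)
    (hdeg : AllDeg g i) (hno : ∀ U : Submodule F V, Inv a U → finrank F U = i → ¬ NDon B U)
    {W : Submodule F V} (hW : Inv a W) (hN : NDon B W) (h : 0 < finrank F W) :
    ∃ P T : Submodule F V, P ≤ W ∧ T ≤ P ∧ Inv a P ∧ NDon B P ∧ finrank F P = 2 * i ∧ Inv a T ∧ TI B T ∧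
      finrank F T = i := by
  obtain ⟨f, hf, hirr, hfg, hD⟩ := (blocks_in hW hg hag hdeg).2.1 h
  obtain ⟨u, hu, hu0⟩ := Submodule.exists_mem_ne_zero_of_ne_bot
    (p := W ⊓ LinearMap.ker (aeval a f)) (fun h0 => by rw [h0, finrank_bot] at hD; omega)
  obtain ⟨hci, hcd, hcm⟩ := cyc_props hf hirr hu0 (LinearMap.mem_ker.1 hu.2)
  rw [hdeg f hf hirr hfg] at hci hcd hcm
  set U := cyc a u i
  have hUW : U ≤ W := Submodule.span_le.2 (by
    rintro _ ⟨j, rfl⟩
    have := aeval_mem hW (X ^ (j : ℕ)) hu.1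
    rwa [map_pow, aeval_X] at this)
  have hUT : TI B U := (ti_or_ndon hB hP hci hcm).resolve_right (hno U hci hcd)
  set O := W ⊓ orth B U with hO
  have hag' : aeval (a.restrict hW) g = 0 := LinearMap.ext fun x => Subtype.ext (by
    rw [aeval_restrict, hag]; rfl)
  obtain ⟨C', hC'i, hC'⟩ := exists_compl hg hag' (W := O.comap W.subtype)
    (fun x hx => (hW.inf (inv_orth hB hP hci)) _ hx)
  set C := C'.map W.subtype with hC
  have hCW : C ≤ W := lift_le C'
  have hCi : Inv a C := inv_lift hC'i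
  have hCd0 : C ⊓ O = ⊥ := by
    rw [eq_bot_iff]
    rintro _ ⟨⟨x, hx, rfl⟩, hxO⟩
    have hb := hC'.inf_eq_bot.le ⟨hxO, hx⟩
    rw [Submodule.mem_bot] at hb ⊢
    rw [hb, map_zero]
  have hspan : ∀ z ∈ W, ∃ o ∈ O, ∃ c ∈ C, o + c = z := by
    intro z hz
    obtain ⟨o, ho, c, hc, hoc⟩ := Submodule.mem_sup.1
      (show (⟨z, hz⟩ : W) ∈ O.comap W.subtype ⊔ C' by rw [hC'.sup_eq_top]; trivial)
    exact ⟨o, ho, c, ⟨c, hc, rfl⟩, congrArg Subtype.val hoc⟩
  have hpos : 0 < finrank F C := by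
    by_contra hc0
    have hC0 : C = ⊥ := Submodule.finrank_eq_zero.1 (by omega)
    refine hu0 (hN u hu.1 fun z hz => ?_)
    obtain ⟨o, ho, c, hc, rfl⟩ := hspan z hz
    rw [hC0, Submodule.mem_bot] at hc
    rw [hc, add_zero]
    exact ho.2 u (Submodule.subset_span ⟨⟨0, hi⟩, by simp⟩)
  have hCle : finrank F C ≤ i := by
    let S : C →ₗ[F] (Fin i → F) := LinearMap.pi fun j : Fin i => (B ((a ^ (j : ℕ)) u)).comp C.subtype
    have hS : Function.Injective S := (injective_iff_map_eq_zero S).2 fun c hc => by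
      have hcO : (c : V) ∈ C ⊓ O := ⟨c.2, hCW c.2, fun w hw => by
        obtain ⟨e, rfl⟩ := (Submodule.mem_span_range_iff_exists_fun F).1 hw
        have hc' : ∀ j : Fin i, B ((a ^ (j : ℕ)) u) (c : V) = 0 := fun j => congrFun hc j
        simp [map_sum, hc']⟩
      rw [hCd0, Submodule.mem_bot] at hcO
      exact Subtype.ext hcO
    exact (LinearMap.finrank_le_finrank_of_injective hS).trans (Module.finrank_fin_fun F).le
  have hCdim : finrank F C = i := le_antisymm hCle (Nat.le_of_dvd hpos (blocks_in hCi hg hag hdeg).1)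
  have hCT : TI B C := by
    by_contra hnot
    refine hno C hCi hCdim fun x hx h0 => ?_
    by_contra hx0
    have hR : Inv a (C ⊓ orth B C) := hCi.inf (inv_orth hB hP hCi)
    have hxR : x ∈ C ⊓ orth B C := ⟨hx, fun w hw => (eq_zero_comm hB).1 (h0 w hw)⟩
    have hRpos : 0 < finrank F (C ⊓ orth B C : Submodule F V) :=
      Nat.pos_of_ne_zero fun h => hx0 (by rwa [Submodule.finrank_eq_zero.1 h, Submodule.mem_bot] at hxR)
    have heq := Submodule.eq_of_le_of_finrank_le (inf_le_left : C ⊓ orth B C ≤ C)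
      (by rw [hCdim]; exact Nat.le_of_dvd hRpos (blocks_in hR hg hag hdeg).1)
    exact hnot fun y hy z hz => (inf_eq_left.1 heq) hz y hy
  have hUO : U ≤ O := le_inf hUW fun x hx w hw => hUT w hw x hx
  have hdisj : U ⊓ C = ⊥ := eq_bot_iff.2 fun x hx => hCd0 ▸ (⟨hx.2, hUO hx.1⟩ : x ∈ C ⊓ O)
  refine ⟨U ⊔ C, U, sup_le hUW hCW, le_sup_left, hci.sup hCi, ?_, ?_, hci, hUT, hcd⟩
  · intro x hx h0
    obtain ⟨x1, hx1, x2, hx2, rfl⟩ := Submodule.mem_sup.1 hx
    have e2 : x2 = 0 := by
      have hm : x2 ∈ C ⊓ O := ⟨hx2, hCW hx2, fun w hw => by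
        have := h0 w (Submodule.mem_sup_left hw)
        rw [map_add, LinearMap.add_apply, hUT x1 hx1 w hw, zero_add] at this
        exact (eq_zero_comm hB).1 this⟩
      rwa [hCd0, Submodule.mem_bot] at hm
    rw [e2, add_zero] at h0 ⊢
    refine hN x1 (hUW hx1) fun z hz => ?_
    obtain ⟨o, ho, c, hc, rfl⟩ := hspan z hz
    rw [map_add, ho.2 x1 hx1, h0 c (Submodule.mem_sup_right hc), add_zero]
  · have h1 := Submodule.finrank_sup_add_finrank_inf_eq U C
    rw [hdisj, finrank_bot, add_zero, hcd, hCdim] at h1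
    rw [h1, two_mul]

/-- Iterating a step. -/
theorem chain (hB : IsHerm B) (hP : Pres B a) {M c t : ℕ}
    (step : ∀ W : Submodule F V, Inv a W → NDon B W → M < finrank F W →
      ∃ P T : Submodule F V, P ≤ W ∧ T ≤ P ∧ Inv a P ∧ NDon B P ∧ finrank F P = c ∧ Inv a T ∧ TI B T ∧
        finrank F T = t)
    (A : ℕ) {W : Submodule F V} (hW : Inv a W) (hN : NDon B W) (hA : A = 0 ∨ M + c * A < finrank F W + c) :
    ∃ P T : Submodule F V, P ≤ W ∧ T ≤ P ∧ Inv a P ∧ NDon B P ∧ finrank F P = c * A ∧ Inv a T ∧ TI B T ∧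
      finrank F T = t * A := by
  induction A generalizing W with
  | zero => exact ⟨⊥, ⊥, bot_le, le_rfl, inv_bot, ndon_bot, by simp, inv_bot, ti_bot, by simp⟩
  | succ A ih =>
    have hA' : M + c * A < finrank F W := by
      have := hA.resolve_left A.succ_ne_zero
      rw [Nat.mul_succ] at this
      omega
    obtain ⟨P, T, hPW, hTP, hPi, hPn, hPd, hTi, hTt, hTd⟩ := step W hW hN (by omega)
    have hfr := finrank_inf_orth hB hPn hPW
    obtain ⟨P', T', hP'W, hTP', hP'i, hP'n, hP'd, hT'i, hT't, hT'd⟩ :=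
      ih (hW.inf (inv_orth hB hP hPi)) (ndon_inf_orth hB hPn hN hPW) (Or.inr (by omega))
    have hor : P ≤ orth B P' := le_orth_symm hB (hP'W.trans inf_le_right)
    have hd := (disjoint_of_orth hPn hB hor)
    refine ⟨P ⊔ P', T ⊔ T', sup_le hPW (hP'W.trans inf_le_left), sup_le_sup hTP hTP', hPi.sup hP'i,
      ndon_sup hB hPn hP'n hor, ?_, hTi.sup hT'i,
      ti_sup hB hTt hT't fun x hx w hw => hor (hTP hx) w (hTP' hw), ?_⟩
    · have h1 := Submodule.finrank_sup_add_finrank_inf_eq P P'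
      rw [hd.eq_bot, finrank_bot, add_zero, hPd, hP'd] at h1
      rw [h1, Nat.mul_succ, add_comm]
    · have h1 := Submodule.finrank_sup_add_finrank_inf_eq T T'
      rw [(hd.mono hTP hTP').eq_bot, finrank_bot, add_zero, hTd, hT'd] at h1
      rw [h1, Nat.mul_succ, add_comm]

/-- Hyperbolic blocks: the dimension is a multiple of `2 i`. -/
theorem two_mul_dvd (hB : IsHerm B) (hP : Pres B a) {i : ℕ} (hi : 0 < i) (hg : Squarefree g)
    (hag : aeval a g = 0) (hdeg : AllDeg g i)
    (hno : ∀ U : Submodule F V, Inv a U → finrank F U = i → ¬ NDon B U)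
    {W : Submodule F V} (hW : Inv a W) (hN : NDon B W) : 2 * i ∣ finrank F W := by
  induction h : finrank F W using Nat.strong_induction_on generalizing W with
  | _ n ih =>
    subst h
    rcases Nat.eq_zero_or_pos (finrank F W) with h0 | h0
    · rw [h0]; exact dvd_zero _
    obtain ⟨P, T, hPW, -, hPi, hPn, hPd, -⟩ := step_pair hB hP hi hg hag hdeg hno hW hN h0
    have hfr := finrank_inf_orth hB hPn hPW
    rw [← hfr, hPd]
    exact dvd_add dvd_rfl (ih _ (by omega) (hW.inf (inv_orth hB hP hPi)) (ndon_inf_orth hB hPn hN hPW) rfl)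

end Cfsg.Agent.Classical.UnitElem
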