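import Cfsg.Agent.Classical.UnitElem.Glue

/-!
# Elements of given order, determinants of non-split elements, and small combinatorics
-/

set_option autoImplicit false

namespace Cfsg.Agent.Classical.UnitElem

open Module Polynomial
open Cfsg.Agent.Classical.Herm
open Cfsg.Agent.Classical (hermB hermB_isHerm)
open Cfsg.Agent.MatModule (exists_rootMul)
open Cfsg.Agent.Classical.Elusive (finrank_eq_sum dvd_of_aeval charpoly_eq)

universe u v

variable {F : Type u} [Field F] [Fintype F] {σ : F →+* F} {q n r : ℕ}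

theorem exists_of_order (hF : Fintype.card F = q ^ 2) {d : ℕ} (hd : d ∣ q + 1) :
    ∃ z : F, orderOf z = d ∧ z ^ (q + 1) = 1 := by
  classical
  have hq : 1 ≤ q := by
    rcases Nat.eq_zero_or_pos q with h | h
    · rw [h] at hF; simp at hF
    · exact h
  have hd' : d ∣ Fintype.card Fˣ := by
    rw [Fintype.card_units, hF, show q ^ 2 - 1 = (q + 1) * (q - 1) by rw [← Nat.sq_sub_sq, one_pow]]
    exact hd.mul_right _
  obtain ⟨g, hg⟩ := IsCyclic.exists_generator (α := Fˣ)
  have hog : orderOf g = Fintype.card Fˣ := by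
    rw [orderOf_eq_card_of_forall_mem_zpowers hg, Nat.card_eq_fintype_card]
  obtain ⟨k, hk⟩ := hd'
  have hk0 : k ≠ 0 := fun h => by
    rw [h, mul_zero] at hk
    exact Fintype.card_pos.ne' hk
  have ho : orderOf (((g ^ k : Fˣ)) : F) = d := by
    rw [orderOf_units, orderOf_pow' g hk0, hog, hk, Nat.gcd_eq_right (dvd_mul_left k _),
      Nat.mul_div_cancel _ (Nat.pos_of_ne_zero hk0)]
  exact ⟨_, ho, orderOf_dvd_iff_pow_eq_one.1 (ho ▸ hd)⟩

/-- An element of norm one whose `r`-th roots are missing has full `r`-order. -/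
theorem pow_div_ne_one [hr : Fact r.Prime] (hF : Fintype.card F = q ^ 2) (hrq : r ∣ q + 1) {z : F}
    (hroot : ∀ w : F, w ^ r ≠ z) : z ^ ((q + 1) / r) ≠ 1 := by
  classical
  intro hz
  have hq : 1 < q := by
    have h1 : 1 < q ^ 2 := hF ▸ Fintype.one_lt_card
    exact lt_of_pow_lt_pow_left₀ 2 (Nat.zero_le _) (by simpa using h1)
  obtain ⟨M, hM⟩ := hrq
  rw [hM, Nat.mul_div_cancel_left _ hr.out.pos] at hz
  have hz0 : z ≠ 0 := fun h => hroot 0 (by rw [h, zero_pow hr.out.ne_zero])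
  obtain ⟨g, hg⟩ := IsCyclic.exists_generator (α := Fˣ)
  obtain ⟨k, hk⟩ := Subgroup.mem_zpowers_iff.1 (hg (Units.mk0 z hz0))
  have hgk : g ^ (k * (M : ℤ)) = 1 := by
    rw [zpow_mul, hk, zpow_natCast]
    exact Units.ext (by simpa using hz)
  have hdvd := orderOf_dvd_iff_zpow_eq_one.2 hgk
  rw [orderOf_eq_card_of_forall_mem_zpowers hg, Nat.card_eq_fintype_card, Fintype.card_units, hF,
    show q ^ 2 - 1 = (q + 1) * (q - 1) by rw [← Nat.sq_sub_sq, one_pow], hM] at hdvd
  obtain ⟨j, hj⟩ := hdvd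
  have hM0 : (M : ℤ) ≠ 0 := by
    intro h0
    have : M = 0 := by exact_mod_cast h0
    rw [this, mul_zero] at hM
    omega
  have hk' : k = (r : ℤ) * (((q - 1 : ℕ) : ℤ) * j) := by
    refine mul_right_cancel₀ hM0 ?_
    rw [hj]
    push_cast
    ring
  refine hroot ((g ^ (((q - 1 : ℕ) : ℤ) * j) : Fˣ) : F) ?_
  rw [← Units.val_pow_eq_pow_val, ← zpow_natCast, ← zpow_mul, mul_comm, ← hk', hk]
  rfl

/-- The determinant of a non-split element. -/
theorem det_twisted [hr : Fact r.Prime] (hr2 : r ≠ 2) {V : Type v} [AddCommGroup V] [Module F V]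
    [FiniteDimensional F V] {a : Module.End F V} {z : F} (hroot : ∀ w : F, w ^ r ≠ z) (har : a ^ r = z • 1) :
    r ∣ finrank F V ∧ LinearMap.det a = z ^ (finrank F V / r) := by
  have hodd := hr.out.odd_of_ne_two hr2
  have hirr : Irreducible (X ^ r - C z) := X_pow_sub_C_irreducible_of_prime hr.out hroot
  have hm : (X ^ r - C z).Monic := monic_X_pow_sub_C z hr.out.ne_zero
  have hag : aeval a (X ^ r - C z) = 0 := by
    rw [map_sub, map_pow, aeval_X, aeval_C, har, Module.algebraMap_end_eq_smul_id]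
    exact sub_self _
  obtain ⟨ι, hι, s, hs, hsi, Φ, hΦ⟩ := exists_rootMul a hirr.squarefree hag
  have hall : ∀ j, s j = X ^ r - C z := fun j =>
    eq_of_monic_of_associated (hs j) hm ((hsi j).associated_of_dvd hirr (dvd_of_aeval hΦ hag j))
  have hn : finrank F V = r * Fintype.card ι := by
    rw [finrank_eq_sum Φ hs, Finset.sum_congr rfl fun j _ => by rw [hall j, natDegree_X_pow_sub_C],
      Finset.sum_const, Finset.card_univ, smul_eq_mul, mul_comm]
  refine ⟨⟨_, hn⟩, ?_⟩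
  rw [LinearMap.det_eq_sign_charpoly_coeff, charpoly_eq hΦ hs, Finset.prod_congr rfl fun j _ => hall j,
    Finset.prod_const, Finset.card_univ, hn, Nat.mul_div_cancel_left _ hr.out.pos, coeff_zero_eq_eval_zero,
    eval_pow, eval_sub, eval_pow, eval_X, eval_C, zero_pow hr.out.ne_zero, zero_sub, pow_mul, ← mul_pow,
    hodd.neg_one_pow, neg_one_mul, neg_neg]

/-- A non-split element forces `(n)_r > (q + 1)_r`. -/
theorem twisted_valuation [hr : Fact r.Prime] (hF : Fintype.card F = q ^ 2) (hrq : r ∣ q + 1) {z : F}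
    (hz : z ^ (q + 1) = 1) (hroot : ∀ w : F, w ^ r ≠ z) (hn0 : 0 < n) (hn : r ∣ n) (hdet : z ^ (n / r) = 1) :
    padicValNat r (q + 1) < padicValNat r n := by
  by_contra hle
  push Not at hle
  refine pow_div_ne_one hF hrq hroot ?_
  obtain ⟨N, rfl⟩ := hn
  rw [Nat.mul_div_cancel_left _ hr.out.pos] at hdet
  have hN0 : N ≠ 0 := fun h => by subst h; omega
  obtain ⟨s, E, hE, hNE⟩ := Nat.exists_eq_pow_mul_and_not_dvd hN0 r hr.out.ne_one
  have hvN : padicValNat r (r * N) = s + 1 := by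
    rw [hNE, ← mul_assoc, ← pow_succ', padicValNat.mul (pow_ne_zero _ hr.out.ne_zero) (fun h : E = 0 => hE (by rw [h]; exact dvd_zero _)),
      padicValNat.prime_pow, padicValNat.eq_zero_of_not_dvd hE, add_zero]
  obtain ⟨M, hM⟩ := (pow_dvd_pow r (hvN ▸ hle)).trans (pow_padicValNat_dvd (p := r) (n := q + 1))
  have hdiv : (q + 1) / r = r ^ s * M := by
    rw [hM, pow_succ', mul_assoc, Nat.mul_div_cancel_left _ hr.out.pos]
  have h1 : (z ^ ((q + 1) / r)) ^ E = 1 := by
    rw [← pow_mul, hdiv, show r ^ s * M * E = N * M by rw [hNE]; ring, pow_mul, hdet, one_pow]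
  have h2 : (z ^ ((q + 1) / r)) ^ r = 1 := by rw [← pow_mul, Nat.div_mul_cancel hrq, hz]
  have h3 := (pow_gcd_eq_one (a := z ^ ((q + 1) / r)) (m := E) (n := r)).2 ⟨h1, h2⟩
  rwa [((hr.out.coprime_iff_not_dvd).2 hE).symm.gcd_eq_one, pow_one] at h3

theorem orderOf_two_cases {q : ℕ} [hr : Fact r.Prime] (hr2 : r ≠ 2) (hq : (q : ZMod r) ≠ 0) {i c : ℕ}
    (hi : i = orderOf (q : ZMod r)) (hc : c = if i % 4 = 0 then i else if i % 4 = 2 then i / 2 else 2 * i) :
    c = orderOf (-(q : ZMod r)) ∧ (i = 2 ↔ r ∣ q + 1) ∧ (i = 2 ↔ c = 1) ∧ 0 < i := by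
  have hc' : c = orderOf (-(q : ZMod r)) := by rw [hc, hi, orderOf_neg_cases hr2 hq]
  have hpos : 0 < i := hi ▸ (isOfFinOrder_iff_pow_eq_one.2
    ⟨r - 1, by have := hr.out.two_le; omega, ZMod.pow_card_sub_one_eq_one hq⟩).orderOf_pos
  have h1 : i = 2 ↔ c = 1 := by
    rw [hc]; split_ifs <;> omega
  refine ⟨hc', ?_, h1, hpos⟩
  rw [h1, hc', orderOf_eq_one_iff, neg_eq_iff_eq_neg, ← ZMod.natCast_eq_zero_iff, Nat.cast_add, Nat.cast_one,
    eq_neg_iff_add_eq_zero]

omit [Fintype F] in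
theorem sub_one_pow_char {p : ℕ} [Fact p.Prime] [CharP F p] {V : Type v} [AddCommGroup V] [Module F V]
    (a : Module.End F V) : (a - 1) ^ p = a ^ p - 1 := by
  have h : ((X : F[X]) - 1) ^ p = X ^ p - 1 := by rw [sub_pow_char, one_pow]
  have := congrArg (aeval a) h
  simpa using this

theorem partition_two (m n : ℕ) (hmn : m ≤ n) :
    (∀ μ : Multiset ℕ, (∀ a ∈ μ, 0 < a ∧ a ≤ 2) → μ.sum = n → ∃ ν : Multiset ℕ, ν ≤ μ ∧ ν.sum = m) ↔
      (Odd n ∨ Even m) := by
  constructor
  · intro h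
    by_contra hc
    rw [not_or, Nat.not_odd_iff_even] at hc
    obtain ⟨⟨k, hk⟩, hm⟩ := hc
    obtain ⟨ν, hν, hs⟩ := h (Multiset.replicate k 2)
      (fun a ha => by rw [Multiset.eq_of_mem_replicate ha]; omega) (by rw [Multiset.sum_replicate, smul_eq_mul]; omega)
    obtain ⟨j, -, hj⟩ := Multiset.le_replicate_iff.1 hν
    rw [hj, Multiset.sum_replicate, smul_eq_mul] at hs
    exact hm ⟨j, by omega⟩
  · intro h μ hμ hsum
    obtain ⟨x, y, rfl⟩ : ∃ x y, μ = Multiset.replicate x 1 + Multiset.replicate y 2 := by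
      refine ⟨μ.count 1, μ.count 2, Multiset.ext.2 fun a => ?_⟩
      rw [Multiset.count_add, Multiset.count_replicate, Multiset.count_replicate]
      by_cases ha : a ∈ μ
      · have := hμ a ha
        rcases (show a = 1 ∨ a = 2 by omega) with rfl | rfl <;> simp
      · have h0 := Multiset.count_eq_zero.2 ha
        split_ifs with e1 e2 e2 <;> subst_vars <;> omega
    simp only [Multiset.sum_add, Multiset.sum_replicate, smul_eq_mul] at hsum
    refine ⟨Multiset.replicate (m - 2 * min y (m / 2)) 1 + Multiset.replicate (min y (m / 2)) 2,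
      add_le_add (Multiset.replicate_le_replicate 1 |>.2 ?_) (Multiset.replicate_le_replicate 2 |>.2 (min_le_left _ _)),
      by simp only [Multiset.sum_add, Multiset.sum_replicate, smul_eq_mul]; omega⟩
    rcases h with ⟨k, hk⟩ | ⟨k, hk⟩ <;> omega

end Cfsg.Agent.Classical.UnitElem
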