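import Cfsg.Agent.Classical.UnitElem.Model
import Cfsg.Agent.Classical.SympElem.Model

/-!
# Witness isometries of odd prime order
-/

set_option autoImplicit false

namespace Cfsg.Agent.Classical.UnitElem

open Module Polynomial
open Cfsg.Agent.Classical (hermB hermB_apply hermB_isHerm)
open Cfsg.Agent.Classical.Herm
open Cfsg.Agent.MatModule (finite_adjoinRoot)
open Cfsg.Agent.Classical.SympElem (Inv inv_top fx mv fx_apply AllDeg poly_facts exists_factors dvd_cyclotomic
  eval_one_cyclo aeval_mem)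

universe u v w

variable {F : Type u} [Field F] [Fintype F] {σ : F →+* F} {q n r : ℕ}

/-- An abstract Hermitian space of dimension `n` with an isometry of determinant one and scalar `r`-th power. -/
structure Datum (F : Type u) [Field F] (σ : F →+* F) (n r : ℕ) where
  V : Type u
  [addV : AddCommGroup V]
  [modV : Module F V]
  [finV : FiniteDimensional F V]
  B : V →ₛₗ[σ] V →ₗ[F] F
  a : Module.End F V
  z : F
  herm : IsHerm B
  pres : Pres B a
  dim : finrank F V = n
  det : LinearMap.det a = 1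
  pow : a ^ r = z • 1
  nonscalar : ∀ z : F, a ≠ z • 1

attribute [instance] Datum.addV Datum.modV Datum.finV

theorem not_scalar_of_pow [Fact r.Prime] (hσq : ∀ x, σ x = x ^ q) {V : Type v} [AddCommGroup V] [Module F V]
    [FiniteDimensional F V] {B : V →ₛₗ[σ] V →ₗ[F] F} (hB : IsHerm B) {a : Module.End F V} (hP : Pres B a)
    (har : a ^ r = 1) (hr : ¬ r ∣ q + 1) (hfx : finrank F (fx a) < finrank F V) (z : F) : a ≠ z • 1 := by
  intro hz
  obtain ⟨v, hv⟩ : ∃ v : V, v ≠ 0 := by
    by_contra hc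
    push Not at hc
    haveI : Subsingleton V := ⟨fun x y => by rw [hc x, hc y]⟩
    have : finrank F V = 0 := finrank_zero_of_subsingleton
    omega
  obtain ⟨w, -, hw⟩ := ndon_iff.1 (ndon_top hB) v Submodule.mem_top hv
  have h1 : z ^ r = 1 := by
    have := LinearMap.congr_fun har v
    rw [hz, _root_.smul_pow, one_pow, LinearMap.smul_apply, Module.End.one_apply] at this
    exact smul_left_injective F hv (show z ^ r • v = (1 : F) • v by rw [one_smul]; exact this)
  have h2 : z ^ (q + 1) = 1 := by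
    have := hP v w
    rw [hz] at this
    simp only [LinearMap.smul_apply, Module.End.one_apply, map_smulₛₗ, smul_eq_mul, RingHom.id_apply] at this
    have h : σ z * z = 1 := mul_right_cancel₀ hw (by linear_combination this)
    rwa [hσq, ← pow_succ] at h
  have h3 := (pow_gcd_eq_one (a := z) (m := r) (n := q + 1)).2 ⟨h1, h2⟩
  rw [((Fact.out : r.Prime).coprime_iff_not_dvd.2 hr).gcd_eq_one, pow_one] at h3
  rw [h3, one_smul] at hz
  rw [hz, show fx (1 : Module.End F V) = ⊤ by simp [fx], finrank_top] at hfx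
  exact lt_irrefl _ hfx

omit [Fintype F] in
theorem pow_pi {N : ℕ} {W : Type v} [AddCommGroup W] [Module F W] (f : Fin N → Module.End F W) (k : ℕ) :
    (LinearMap.pi fun l => (f l).comp (LinearMap.proj l) : Module.End F (Fin N → W)) ^ k =
      LinearMap.pi fun l => (f l ^ k).comp (LinearMap.proj l) := by
  induction k with
  | zero => exact LinearMap.ext fun x => funext fun l => by simp
  | succ k ih => rw [pow_succ, ih]; exact LinearMap.ext fun x => funext fun l => by simp [pow_succ]

omit [Fintype F] in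
theorem pres_pi {N : ℕ} {W : Type v} [AddCommGroup W] [Module F W] {B : W →ₛₗ[σ] W →ₗ[F] F}
    {f : Fin N → Module.End F W} (h : ∀ l, Pres B (f l)) :
    Pres (piB (Fin N) B) (LinearMap.pi fun l => (f l).comp (LinearMap.proj l)) := fun x y => by
  simp [piB_apply, h _ _ _]

omit [Fintype F] in
theorem fx_le_of_free {V : Type v} [AddCommGroup V] [Module F V] [FiniteDimensional F V] {N : ℕ} {W : Type w}
    [AddCommGroup W] [Module F W] [FiniteDimensional F W] (f : Fin N → Module.End F W)
    (h : ∀ l x, f l x = x → x = 0) :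
    finrank F (fx ((1 : Module.End F V).prodMap (LinearMap.pi fun l => (f l).comp (LinearMap.proj l)) :
      Module.End F (V × (Fin N → W)))) ≤ finrank F V := by
  refine (Submodule.finrank_mono (t := LinearMap.range (LinearMap.inl F V (Fin N → W))) fun x hx => ?_).trans
    (LinearMap.finrank_range_le _)
  have := fx_apply hx
  exact ⟨x.1, Prod.ext rfl (funext fun l => (h l _ (congrFun (congrArg Prod.snd this) l)).symm)⟩

theorem datum_of_free [Fact r.Prime] (h : OddPrime σ q r) (hc : ¬ r ∣ q + 1) {W : Type u} [AddCommGroup W]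
    [Module F W] [FiniteDimensional F W] {B : W →ₛₗ[σ] W →ₗ[F] F} (hB : IsHerm B) {e N : ℕ}
    (f : Fin N → Module.End F W) (hP : ∀ l, Pres B (f l)) (hr : ∀ l, f l ^ r = 1)
    (hfree : ∀ l x, f l x = x → x = 0) (hdim : e + N * finrank F W = n) (he : e < n) :
    ∃ D : Datum F σ n r, D.z = 1 ∧ finrank F (fx D.a) ≤ e := by
  have hB' := isHerm_prodB (hermB_isHerm h.invol e) (isHerm_piB (ι := Fin N) hB)
  set a : Module.End F ((Fin e → F) × (Fin N → W)) :=
    (1 : Module.End F (Fin e → F)).prodMap (LinearMap.pi fun l => (f l).comp (LinearMap.proj l)) with ha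
  have hP' : Pres (prodB (hermB e σ) (piB (Fin N) B)) a := pres_prod (fun _ _ => rfl) (pres_pi hP)
  have har : a ^ r = 1 := by
    rw [ha, prodMap_pow, one_pow, pow_pi]
    exact LinearMap.ext fun x => Prod.ext rfl (funext fun l => by simp [hr l])
  have hfx : finrank F (fx a) ≤ e := (fx_le_of_free f hfree).trans (Module.finrank_fin_fun F).le
  have hd : finrank F ((Fin e → F) × (Fin N → W)) = n := by
    rw [Module.finrank_prod, Module.finrank_fin_fun, Module.finrank_pi_fintype]
    simp [hdim]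
  exact ⟨⟨_, _, a, 1, hB', hP', hd, det_eq_one h.pow hB' hP' har hc, by rw [har, one_smul],
    not_scalar_of_pow h.pow hB' hP' har hc (by omega)⟩, rfl, hfx⟩

theorem exists_factor_field [Fact r.Prime] (h : OddPrime σ q r) :
    ∃ f : F[X], f.Monic ∧ Irreducible f ∧ f ∣ cyclotomic r F ∧ f.natDegree = orderOf ((q : ZMod r) ^ 2) := by
  obtain ⟨t, fs, ht, -, hfs⟩ := exists_factors (F := F) (r := r) h.ne_zero
  have ht0 : 0 < t := Nat.pos_of_ne_zero fun h0 => by
    rw [h0, zero_mul] at ht
    have := h.prime.two_le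
    omega
  obtain ⟨h1, h2, h3⟩ := hfs ⟨0, ht0⟩
  exact ⟨_, h1, h2, h3, by rw [← h.card_eq]; exact (poly_facts h.ne_zero).2.1 _ h1 h2 h3⟩

omit [Fintype F] in
theorem mulLeft_free {L : Type v} [Field L] [Algebra F L] {θ : L} (hθ : θ ≠ 1) (x : L)
    (hx : LinearMap.mulLeft F θ x = x) : x = 0 := by
  rw [LinearMap.mulLeft_apply] at hx
  by_contra hx0
  exact hθ (mul_right_cancel₀ hx0 (by rw [one_mul]; exact hx))

theorem root_facts [Fact r.Prime] (h : OddPrime σ q r) {f : F[X]} [Fact (Irreducible f)]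
    (hf : f ∣ cyclotomic r F) : AdjoinRoot.root f ^ r = 1 ∧ AdjoinRoot.root f ≠ 1 := by
  refine ⟨?_, fun h1 => ?_⟩
  · have := AdjoinRoot.mk_eq_zero.2 (dvd_cyclotomic hf)
    rwa [map_sub, map_pow, AdjoinRoot.mk_X, AdjoinRoot.mk_C, map_one, sub_eq_zero] at this
  · have he : AdjoinRoot.mk f (X - C 1) = 0 := by rw [map_sub, AdjoinRoot.mk_X, AdjoinRoot.mk_C, map_one, h1, sub_self]
    have hdvd := AdjoinRoot.mk_eq_zero.1 he
    have hass := (Fact.out : Irreducible f).associated_of_dvd (irreducible_X_sub_C 1) hdvd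
    exact eval_one_cyclo h.ne_zero hf (eval_eq_zero_of_dvd_of_eval_eq_zero hass.symm.dvd (by simp))

/-- An element of order `r` with the smallest possible fixed space. -/
theorem exists_min_fixed [Fact r.Prime] (h : OddPrime σ q r) (hc : ¬ r ∣ q + 1)
    (hcn : orderOf (-(q : ZMod r)) ≤ n) :
    ∃ D : Datum F σ n r, D.z = 1 ∧ finrank F (fx D.a) ≤ n % orderOf (-(q : ZMod r)) := by
  obtain ⟨f, hf, hirr, hfd, hdeg⟩ := exists_factor_field h
  haveI := Fact.mk hirr
  haveI := finite_adjoinRoot f hf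
  have hL : finrank F (AdjoinRoot f) = orderOf ((q : ZMod r) ^ 2) := by
    rw [(AdjoinRoot.powerBasis' hf).finrank, AdjoinRoot.powerBasis'_dim, hdeg]
  obtain ⟨hθr, hθ1⟩ := root_facts h hfd
  set θ := AdjoinRoot.root f
  have hθ0 : θ ≠ 0 := fun h0 => by rw [h0, zero_pow h.prime.ne_zero] at hθr; exact zero_ne_one hθr
  obtain ⟨hb0, hcases⟩ := block_cases h.ne_two h.not_dvd
  set b := orderOf ((q : ZMod r) ^ 2)
  set c := orderOf (-(q : ZMod r))
  have hmd := Nat.mod_add_div n c
  have hlt : n % c < n := lt_of_lt_of_le (Nat.mod_lt _ (by omega)) hcn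
  have hpow : ∀ t : AdjoinRoot f, (LinearMap.mulLeft F t) ^ r = LinearMap.mulLeft F (t ^ r) := fun t =>
    by rw [LinearMap.pow_mulLeft]
  rcases hcases with ⟨-, hodd, hcb, hqb⟩ | ⟨-, hcb⟩
  · obtain ⟨B, hB, hP⟩ := exists_field_form (L := AdjoinRoot f) h.invol h.card h.pow (by rw [hL]; exact hodd)
    refine datum_of_free h hc hB (e := n % c) (N := n / c) (fun _ => LinearMap.mulLeft F θ) (fun _ => hP θ ?_)
      (fun _ => by rw [hpow, hθr, LinearMap.mulLeft_one]; rfl) (fun _ => mulLeft_free hθ1)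
      (by rw [hL, mul_comm, ← hcb]; exact hmd) hlt
    rw [hL]
    obtain ⟨l, hl⟩ : r ∣ q ^ b + 1 := by
      rw [← ZMod.natCast_eq_zero_iff, Nat.cast_add, Nat.cast_pow, Nat.cast_one, hqb, neg_add_cancel]
    rw [hl, pow_mul, hθr, one_pow]
  · obtain ⟨p, hp⟩ := CharP.exists F
    haveI := hp
    obtain ⟨k, hpr, hk⟩ := FiniteField.card F p
    haveI := Fact.mk hpr
    obtain ⟨i, -, hi⟩ := (Nat.dvd_prime_pow hpr).1 (show q ∣ p ^ (k : ℕ) from ⟨q, by rw [← hk, h.card, sq]⟩)
    obtain ⟨B, hB, hP⟩ := exists_pair_form (p := p) (L := AdjoinRoot f) h.invol ⟨i, hi⟩ h.pow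
    refine datum_of_free h hc hB (e := n % c) (N := n / c)
      (fun _ => (LinearMap.mulLeft F θ).prodMap (LinearMap.mulLeft F (θ ^ q)⁻¹)) (fun _ => hP θ hθ0)
      (fun _ => ?_) (fun _ x hx => ?_) ?_ hlt
    · rw [prodMap_pow, hpow, hpow, inv_pow, ← pow_mul, mul_comm q r, pow_mul, hθr, one_pow, inv_one,
        LinearMap.mulLeft_one]
      rfl
    · refine Prod.ext (mulLeft_free (F := F) hθ1 _ (congrArg Prod.fst hx)) (mulLeft_free (F := F) ?_ _ (congrArg Prod.snd hx))
      intro he
      rw [inv_eq_one] at he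
      refine hθ1 ?_
      have hrq : Nat.Coprime q r :=
        (h.prime.coprime_iff_not_dvd.2 fun hd => h.not_dvd ((ZMod.natCast_eq_zero_iff _ _).2 hd)).symm
      have := (pow_gcd_eq_one (a := θ) (m := q) (n := r)).2 ⟨he, hθr⟩
      rwa [hrq.gcd_eq_one, pow_one] at this
    · rw [Module.finrank_prod, hL, ← two_mul, ← hcb, mul_comm]
      exact hmd

/-- Pairwise different self-inverse blocks: no totally isotropic invariant subspace meets the moved part. -/
theorem ti_bound_distinct {L : Type v} [Field L] [Algebra F L] [FiniteDimensional F L] (hσ : IsInvol σ)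
    {BL : L →ₛₗ[σ] L →ₗ[F] F} (hBL : IsHerm BL) {e N : ℕ} (θ : Fin N → L) (fs : Fin N → F[X])
    (h0 : ∀ l, aeval (θ l) (fs l) = 0) (hne : ∀ j l, j ≠ l → aeval (θ l) (fs j) ≠ 0)
    (h1 : e = 0 ∨ ∀ l, θ l ≠ 1) (hgen : ∀ l (y : L), ∃ g : F[X], aeval (θ l) g = y)
    {W : Submodule F ((Fin e → F) × (Fin N → L))}
    (hW : Inv ((1 : Module.End F (Fin e → F)).prodMap
      (LinearMap.pi fun l => (LinearMap.mulLeft F (θ l)).comp (LinearMap.proj l))) W)
    (hT : TI (prodB (hermB e σ) (piB (Fin N) BL)) W) : 2 * finrank F W ≤ e := by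
  classical
  set a : Module.End F ((Fin e → F) × (Fin N → L)) := (1 : Module.End F (Fin e → F)).prodMap
    (LinearMap.pi fun l => (LinearMap.mulLeft F (θ l)).comp (LinearMap.proj l)) with ha
  have hev : ∀ (g : F[X]) x, aeval a g x = (g.eval 1 • x.1, fun l => aeval (θ l) g * x.2 l) := by
    intro g x
    induction g using Polynomial.induction_on' with
    | add f g hf hg =>
      rw [map_add, LinearMap.add_apply, hf, hg, eval_add, Prod.mk_add_mk, add_smul]
      exact Prod.ext rfl (funext fun l => by simp [add_mul])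
    | monomial k c =>
      rw [aeval_monomial, Module.End.mul_apply, Module.algebraMap_end_apply, ha, prodMap_pow, one_pow, pow_pi]
      refine Prod.ext ?_ (funext fun l => ?_)
      · simp
      · simp [LinearMap.pow_mulLeft, Algebra.smul_def, mul_assoc, aeval_monomial]
  have hzero : ∀ x ∈ W, x.2 = 0 := by
    intro x hx
    funext l
    by_contra hl
    let P : F[X] := (∏ j ∈ Finset.univ.erase l, fs j) * if e = 0 then 1 else X - C 1
    have hPl : aeval (θ l) P ≠ 0 := by
      rw [map_mul, map_prod]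
      refine mul_ne_zero (Finset.prod_ne_zero_iff.2 fun j hj => hne j l (Finset.ne_of_mem_erase hj)) ?_
      split_ifs with he
      · simp
      · simpa [sub_ne_zero] using (h1.resolve_left he) l
    have hP1 : P.eval 1 • x.1 = 0 := by
      by_cases he : e = 0
      · subst he; funext i; exact i.elim0
      · simp [P, he]
    have hy := aeval_mem hW P hx
    rw [hev, hP1] at hy
    have hz : ∀ l', l' ≠ l → aeval (θ l') P = 0 := fun l' hl' => by
      rw [map_mul, map_prod, Finset.prod_eq_zero (Finset.mem_erase.2 ⟨hl', Finset.mem_univ _⟩) (h0 l'),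
        zero_mul]
    set c := aeval (θ l) P * x.2 l with hc
    have hc0 : c ≠ 0 := mul_ne_zero hPl hl
    have hsingle : ∀ y : L, ((0 : Fin e → F), (Pi.single l y : Fin N → L)) ∈ W := by
      intro y
      obtain ⟨g, hg⟩ := hgen l (y / c)
      have := aeval_mem hW g hy
      rw [hev] at this
      convert this using 1
      refine Prod.ext (smul_zero _).symm (funext fun l' => ?_)
      by_cases hl' : l' = l
      · subst hl'
        simp only [Pi.single_eq_same, hg, ← hc, div_mul_cancel₀ _ hc0]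
      · simp [hl', hz l' hl']
    refine hc0 (hBL.nondeg c fun y => ?_)
    have := hT _ (hsingle c) _ (hsingle y)
    rw [prodB_apply, piB_apply, Finset.sum_eq_single l (fun j _ hj => by simp [hj]) (by simp)] at this
    simpa using this
  have hle : finrank F W ≤ finrank F (W.map (LinearMap.fst F _ (Fin N → L))) := by
    have hinj : Function.Injective ((LinearMap.fst F (Fin e → F) (Fin N → L)).domRestrict W) := by
      rw [injective_iff_map_eq_zero]
      intro x hx
      exact Subtype.ext (Prod.ext hx (hzero x x.2))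
    rw [← LinearMap.range_domRestrict, LinearMap.finrank_range_of_inj hinj]
  have hT' : TI (hermB e σ) (W.map (LinearMap.fst F _ (Fin N → L))) := by
    rintro _ ⟨x, hx, rfl⟩ _ ⟨y, hy, rfl⟩
    have := hT x hx y hy
    rwa [prodB_apply, hzero x hx, map_zero, LinearMap.zero_apply, add_zero] at this
  have := two_mul_le_of_ti (hermB_isHerm hσ e) (ndon_top (hermB_isHerm hσ e)) le_top hT'
  rw [finrank_top, Module.finrank_fin_fun] at this
  omega

/-- Pairwise different factors in one field. -/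
theorem exists_distinct [Fact r.Prime] (h : OddPrime σ q r) (hc : ¬ r ∣ q + 1)
    (hcb : orderOf (-(q : ZMod r)) = orderOf ((q : ZMod r) ^ 2))
    {e N : ℕ} (hN : N ≤ (r - 1) / orderOf ((q : ZMod r) ^ 2))
    (hn : e + orderOf ((q : ZMod r) ^ 2) * N = n) (he : e < n) :
    ∃ D : Datum F σ n r, ∀ W : Submodule F D.V, Inv D.a W → TI D.B W → 2 * finrank F W ≤ e := by
  obtain ⟨t, fs, ht, hinj, hfs⟩ := exists_factors (F := F) (r := r) h.ne_zero
  obtain ⟨hb0, hcases⟩ := block_cases h.ne_two h.not_dvd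
  set b := orderOf ((q : ZMod r) ^ 2)
  rcases hcases with ⟨-, hodd, -, hqb⟩ | ⟨-, hcb'⟩
  swap
  · omega
  rw [h.card_eq] at ht
  have hNt : N ≤ t := hN.trans (by rw [← ht, Nat.mul_div_cancel _ hb0])
  set gs : Fin N → F[X] := fun l => fs (Fin.castLE hNt l) with hgs
  have hdeg : ∀ l, (gs l).natDegree = b := fun l => by
    obtain ⟨h1, h2, h3⟩ := hfs (Fin.castLE hNt l)
    rw [hgs]
    exact ((poly_facts h.ne_zero).2.1 _ h1 h2 h3).trans h.card_eq
  obtain ⟨f, hf, hirr, hfd, hfdeg⟩ := exists_factor_field h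
  haveI := Fact.mk hirr
  haveI := finite_adjoinRoot f hf
  have hL : finrank F (AdjoinRoot f) = b := by
    rw [(AdjoinRoot.powerBasis' hf).finrank, AdjoinRoot.powerBasis'_dim, hfdeg]
  haveI : Finite (AdjoinRoot f) := Module.finite_of_finite F
  have hdata : ∀ l, ∃ θ : AdjoinRoot f, aeval θ (gs l) = 0 ∧ (∀ j, j ≠ l → aeval θ (gs j) ≠ 0) ∧
      θ ^ r = 1 ∧ θ ≠ 1 ∧ ∀ y, ∃ g : F[X], aeval θ g = y := by
    intro l
    obtain ⟨h1, h2, h3⟩ := hfs (Fin.castLE hNt l)
    haveI : Fact (Irreducible (gs l)) := ⟨h2⟩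
    haveI := finite_adjoinRoot (gs l) h1
    have hK : finrank F (AdjoinRoot (gs l)) = b := by
      rw [(AdjoinRoot.powerBasis' h1).finrank, AdjoinRoot.powerBasis'_dim, hdeg]
    haveI : Finite (AdjoinRoot (gs l)) := Module.finite_of_finite F
    obtain ⟨φ⟩ := FiniteField.nonempty_algHom_of_finrank_dvd (F := F) (K := AdjoinRoot (gs l))
      (L := AdjoinRoot f) (by rw [hK, hL])
    have hφ : Function.Surjective φ := (LinearMap.injective_iff_surjective_of_finrank_eq_finrank
      (f := φ.toLinearMap) (by rw [hK, hL])).1 φ.toRingHom.injective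
    have hev : ∀ g : F[X], aeval (φ (AdjoinRoot.root (gs l))) g = φ (AdjoinRoot.mk (gs l) g) := fun g => by
      rw [aeval_algHom_apply, AdjoinRoot.aeval_eq]
    obtain ⟨hr1, hr2⟩ := root_facts h h3
    refine ⟨φ (AdjoinRoot.root (gs l)), by rw [hev, AdjoinRoot.mk_self, map_zero], fun j hj he => ?_,
      by rw [← map_pow, hr1, map_one], fun he => hr2 (φ.toRingHom.injective (he.trans (map_one φ).symm)),
      fun y => ?_⟩
    · rw [hev, map_eq_zero, AdjoinRoot.mk_eq_zero] at he
      obtain ⟨h1', h2', -⟩ := hfs (Fin.castLE hNt j)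
      exact hj (Fin.castLE_injective hNt
        (hinj (eq_of_monic_of_associated h1' h1 (h2.associated_of_dvd h2' he).symm)))
    · obtain ⟨x, rfl⟩ := hφ y
      obtain ⟨g, rfl⟩ := AdjoinRoot.mk_surjective x
      exact ⟨g, hev g⟩
  choose θ hθ0 hθne hθr hθ1 hθgen using hdata
  obtain ⟨BL, hBL, hPL⟩ := exists_field_form (L := AdjoinRoot f) h.invol h.card h.pow (by rw [hL]; exact hodd)
  have hPθ : ∀ l, Pres BL (LinearMap.mulLeft F (θ l)) := fun l => hPL (θ l) (by
    obtain ⟨k, hk⟩ : r ∣ q ^ b + 1 := by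
      rw [← ZMod.natCast_eq_zero_iff, Nat.cast_add, Nat.cast_pow, Nat.cast_one, hqb, neg_add_cancel]
    rw [hL, hk, pow_mul, hθr, one_pow])
  have hB' := isHerm_prodB (hermB_isHerm h.invol e) (isHerm_piB (ι := Fin N) hBL)
  set a : Module.End F ((Fin e → F) × (Fin N → AdjoinRoot f)) := (1 : Module.End F (Fin e → F)).prodMap
    (LinearMap.pi fun l => (LinearMap.mulLeft F (θ l)).comp (LinearMap.proj l)) with ha
  have hP' : Pres (prodB (hermB e σ) (piB (Fin N) BL)) a := pres_prod (fun _ _ => rfl) (pres_pi hPθ)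
  have har : a ^ r = 1 := by
    rw [ha, prodMap_pow, one_pow, pow_pi]
    exact LinearMap.ext fun x => Prod.ext rfl (funext fun l => by simp [LinearMap.pow_mulLeft, hθr])
  have hfx : finrank F (fx a) ≤ e :=
    (fx_le_of_free _ fun l => mulLeft_free (hθ1 l)).trans (Module.finrank_fin_fun F).le
  have hd : finrank F ((Fin e → F) × (Fin N → AdjoinRoot f)) = n := by
    rw [Module.finrank_prod, Module.finrank_fin_fun, Module.finrank_pi_fintype]
    simp [hL, ← hn, mul_comm]
  exact ⟨⟨_, _, a, 1, hB', hP', hd, det_eq_one h.pow hB' hP' har hc, by rw [har, one_smul],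
    not_scalar_of_pow h.pow hB' hP' har hc (by omega)⟩,
    fun W hW hT => ti_bound_distinct h.invol hBL θ gs hθ0 (fun j l hjl => hθne l j hjl) (Or.inr hθ1) hθgen hW hT⟩

/-! ### `r` dividing `q + 1` -/

omit [Fintype F] in
theorem exists_exponent {N : ℕ} [Fact r.Prime] (hN : 0 < N) (hNr : N < r) {ζ : F} (hζ : IsPrimitiveRoot ζ r) :
    ∃ w : Fin N → F, Function.Injective w ∧ (∀ l, w l ^ r = 1) ∧ ∏ l, w l = 1 := by
  set P : F := ∏ l : Fin N, ζ ^ (l : ℕ) with hP
  obtain ⟨k, hk⟩ : ∃ k, N * k ≡ 1 [MOD r] := by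
    obtain ⟨k, hk⟩ := Nat.exists_mul_mod_eq_one_of_coprime (n := N) (k := r)
      ((Fact.out : r.Prime).coprime_iff_not_dvd.2 (Nat.not_dvd_of_pos_of_lt hN hNr)).symm
      (Fact.out : r.Prime).one_lt
    refine ⟨k, ?_⟩
    have := hk.2
    rw [Nat.ModEq, Nat.one_mod_eq_one.2 (Fact.out : r.Prime).ne_one]
    exact this
  have hPr : P ^ r = 1 := by
    rw [hP, ← Finset.prod_pow]
    exact Finset.prod_eq_one fun l _ => by rw [← pow_mul, mul_comm, pow_mul, hζ.pow_eq_one, one_pow]
  refine ⟨fun l => ζ ^ (l : ℕ) * (P ^ k)⁻¹, fun a b hab => Fin.ext ?_, fun l => ?_, ?_⟩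
  · have hP0 : (P ^ k)⁻¹ ≠ 0 := inv_ne_zero (pow_ne_zero _ fun h0 => by
      rw [h0, zero_pow (Fact.out : r.Prime).ne_zero] at hPr; exact zero_ne_one hPr)
    exact hζ.pow_inj (by omega) (by omega) (mul_right_cancel₀ hP0 hab)
  · rw [mul_pow, ← pow_mul, mul_comm (l : ℕ), pow_mul, hζ.pow_eq_one, one_pow, inv_pow, ← pow_mul, mul_comm k,
      pow_mul, hPr, one_pow, inv_one, mul_one]
  · rw [Finset.prod_mul_distrib, Finset.prod_const, Finset.card_univ, Fintype.card_fin, ← hP, inv_pow, ← pow_mul,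
      mul_comm k N]
    have e : P ^ (N * k) = P := by
      rw [← Nat.div_add_mod (N * k) r, pow_add, pow_mul, hPr, one_pow, one_mul,
        show N * k % r = 1 from Eq.trans hk (Nat.one_mod_eq_one.2 (Fact.out : r.Prime).ne_one), pow_one]
    rw [e, mul_inv_cancel₀ fun h0 => by rw [h0, zero_pow (Fact.out : r.Prime).ne_zero] at hPr; exact zero_ne_one hPr]

theorem exists_primitive [Fact r.Prime] (h : OddPrime σ q r) (hc : r ∣ q + 1) :
    ∃ ζ : F, IsPrimitiveRoot ζ r := by
  classical
  have hd : r ∣ Fintype.card Fˣ := by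
    rw [Fintype.card_units, h.card, show q ^ 2 - 1 = (q + 1) * (q - 1) by rw [← Nat.sq_sub_sq, one_pow]]
    exact hc.mul_right _
  obtain ⟨g, hg⟩ := exists_prime_orderOf_dvd_card r hd
  exact ⟨g, IsPrimitiveRoot.iff_orderOf.2 ((orderOf_units).trans hg)⟩

/-- Diagonal elements with as many different eigenvalues as possible. -/
theorem exists_distinct_split [Fact r.Prime] (h : OddPrime σ q r) (hc : r ∣ q + 1) (hn : 2 ≤ n) :
    ∃ D : Datum F σ n r, ∀ W : Submodule F D.V, Inv D.a W → TI D.B W → 2 * finrank F W ≤ n - (r - 1) := by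
  classical
  have hr := h.prime
  have hr3 : 3 ≤ r := by have := hr.two_le; have := h.ne_two; omega
  obtain ⟨ζ, hζ⟩ := exists_primitive h hc
  obtain ⟨e, N, hn', he, w, hw, hwr, hwp, hw1⟩ : ∃ e N, e + N = n ∧ e = n - (r - 1) ∧ ∃ w : Fin N → F,
      Function.Injective w ∧ (∀ l, w l ^ r = 1) ∧ ∏ l, w l = 1 ∧
        (e = 0 ∨ ∀ l, w l ≠ 1) := by
    by_cases hlt : n < r - 1
    · obtain ⟨w, h1, h2, h3⟩ := exists_exponent (N := n) (by omega) (by omega) hζ
      exact ⟨0, n, zero_add n, by omega, w, h1, h2, h3, Or.inl rfl⟩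
    · refine ⟨n - (r - 1), r - 1, by omega, rfl, fun l => ζ ^ ((l : ℕ) + 1), fun a b hab => Fin.ext ?_,
        fun l => ?_, ?_, Or.inr fun l hl => ?_⟩
      · have := hζ.pow_inj (i := (a : ℕ) + 1) (j := (b : ℕ) + 1) (by omega) (by omega) hab
        omega
      · rw [← pow_mul, mul_comm, pow_mul, hζ.pow_eq_one, one_pow]
      · rw [Finset.prod_pow_eq_pow_sum, Fin.sum_univ_eq_sum_range (fun l => l + 1), (hζ.pow_eq_one_iff_dvd _)]
        have h2 := Finset.sum_range_id_mul_two r
        have hs : ∑ i ∈ Finset.range (r - 1), (i + 1) = ∑ i ∈ Finset.range r, i := by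
          conv_rhs => rw [show r = r - 1 + 1 by omega, Finset.sum_range_succ']
          simp
        rw [hs]
        exact (Nat.Coprime.dvd_of_dvd_mul_right (Nat.coprime_two_right.2 (hr.odd_of_ne_two h.ne_two))
          (by rw [h2]; exact dvd_mul_right r _))
      · exact hζ.pow_ne_one_of_pos_of_lt (Nat.succ_ne_zero _) (by omega) hl
  have hNpos : 2 ≤ N := by omega
  obtain ⟨BL, hBL, hPL⟩ := exists_field_form (L := F) h.invol h.card h.pow (by rw [Module.finrank_self]; exact odd_one)
  have hPθ : ∀ l, Pres BL (LinearMap.mulLeft F (w l)) := fun l => hPL (w l) (by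
    rw [Module.finrank_self, pow_one]
    obtain ⟨k, hk⟩ := hc
    rw [hk, pow_mul, hwr, one_pow])
  have hB' := isHerm_prodB (hermB_isHerm h.invol e) (isHerm_piB (ι := Fin N) hBL)
  set a : Module.End F ((Fin e → F) × (Fin N → F)) := (1 : Module.End F (Fin e → F)).prodMap
    (LinearMap.pi fun l => (LinearMap.mulLeft F (w l)).comp (LinearMap.proj l)) with ha
  have hP' : Pres (prodB (hermB e σ) (piB (Fin N) BL)) a := pres_prod (fun _ _ => rfl) (pres_pi hPθ)
  have har : a ^ r = 1 := by
    rw [ha, prodMap_pow, one_pow, pow_pi]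
    exact LinearMap.ext fun x => Prod.ext rfl (funext fun l => by simp [LinearMap.pow_mulLeft, hwr])
  have hd : finrank F ((Fin e → F) × (Fin N → F)) = n := by
    rw [Module.finrank_prod, Module.finrank_fin_fun, Module.finrank_fin_fun]; exact hn'
  have hdet : LinearMap.det a = 1 := by
    rw [ha, LinearMap.det_prodMap, map_one, one_mul, LinearMap.det_pi]
    refine (Finset.prod_congr rfl fun l _ => ?_).trans hwp
    rw [show LinearMap.mulLeft F (w l) = w l • (LinearMap.id : F →ₗ[F] F) from LinearMap.ext fun x => rfl,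
      LinearMap.det_smul, Module.finrank_self, LinearMap.det_id, pow_one, mul_one]
  refine ⟨⟨_, _, a, 1, hB', hP', hd, hdet, by rw [har, one_smul], fun z hz => ?_⟩, fun W hW hT => ?_⟩
  · have hev : ∀ l, w l = z := fun l => by
      have := congrFun (congrArg Prod.snd (LinearMap.congr_fun hz ((0 : Fin e → F), fun _ => (1 : F)))) l
      simpa [ha] using this
    have := hw ((hev ⟨0, by omega⟩).trans (hev ⟨1, by omega⟩).symm)
    simp at this
  · have hle := ti_bound_distinct h.invol hBL w (fun l => X - C (w l)) (fun l => by simp)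
      (fun j l hjl => by
        simp only [map_sub, aeval_X, aeval_C, Algebra.algebraMap_self, RingHom.id_apply, ne_eq, sub_eq_zero]
        exact fun he' => hjl (hw he'.symm)) hw1 (fun l y => ⟨C y, by simp⟩) hW hT
    rw [← he]
    exact hle

/-- A non-split element: its `r`-th power is a scalar without an `r`-th root. -/
theorem exists_twisted [Fact r.Prime] (h : OddPrime σ q r) (hc : r ∣ q + 1) (hn : 2 ≤ n)
    (hv : padicValNat r (q + 1) < padicValNat r n) :
    ∃ D : Datum F σ n r, ∀ W : Submodule F D.V, Inv D.a W → r ∣ finrank F W := by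
  classical
  have hr := h.prime
  set t := padicValNat r (q + 1) with ht
  have hq1 := h.one_lt
  have hrt : r ^ t ∣ q + 1 := pow_padicValNat_dvd
  have hnv : r ^ (t + 1) ∣ n := (pow_dvd_pow r hv).trans pow_padicValNat_dvd
  have hcard : Fintype.card Fˣ = (q + 1) * (q - 1) := by
    rw [Fintype.card_units, h.card, ← Nat.sq_sub_sq, one_pow]
  obtain ⟨g, hg⟩ := IsCyclic.exists_generator (α := Fˣ)
  have hog : orderOf g = (q + 1) * (q - 1) := by
    rw [orderOf_eq_card_of_forall_mem_zpowers hg, Nat.card_eq_fintype_card, hcard]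
  obtain ⟨d, hd⟩ : r ^ t ∣ orderOf g := hog ▸ hrt.mul_right _
  have hd0 : d ≠ 0 := fun h0 => by
    rw [h0, mul_zero, hog] at hd
    rcases mul_eq_zero.1 hd with h' | h' <;> omega
  set z : F := ((g ^ d : Fˣ) : F) with hz
  have hzu : orderOf z = r ^ t := by
    rw [hz, orderOf_units, orderOf_pow' g hd0, hd, Nat.gcd_eq_right (dvd_mul_left d _),
      Nat.mul_div_cancel _ (Nat.pos_of_ne_zero hd0)]
  have hzpow : ∀ k, r ^ t ∣ k → z ^ k = 1 := fun k hk => orderOf_dvd_iff_pow_eq_one.1 (hzu ▸ hk)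
  have hzroot : ∀ b : F, b ^ r ≠ z := by
    intro b hb
    have hb0 : b ≠ 0 := fun h0 => by
      rw [h0, zero_pow hr.ne_zero] at hb
      exact (g ^ d).ne_zero hb.symm
    have hord : r ^ (t + 1) ∣ orderOf b := by
      have hbt : b ^ r ^ (t + 1) = 1 := by rw [pow_succ', pow_mul, hb, hzpow _ dvd_rfl]
      obtain ⟨k, hk, hk'⟩ := (Nat.dvd_prime_pow hr).1 (orderOf_dvd_of_pow_eq_one hbt)
      rcases Nat.eq_or_lt_of_le hk with rfl | hlt
      · rw [hk']
      · exfalso
        have hbk : b ^ r ^ t = 1 := orderOf_dvd_iff_pow_eq_one.1 (hk' ▸ pow_dvd_pow r (by omega))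
        have ht0 : t ≠ 0 := by
          intro h0
          rcases (padicValNat.eq_zero_iff (p := r) (n := q + 1)).1 (ht ▸ h0) with h' | h' | h'
          · exact hr.ne_one h'
          · omega
          · exact h' hc
        have h3 : z ^ r ^ (t - 1) = 1 := by
          rw [← hb, ← pow_mul, ← pow_succ', show t - 1 + 1 = t by omega, hbk]
        have h4 := Nat.le_of_dvd (pow_pos hr.pos _) (hzu ▸ orderOf_dvd_of_pow_eq_one h3)
        exact absurd h4 (not_le.2 (Nat.pow_lt_pow_right hr.one_lt (by omega)))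
    have hb1 : orderOf b ∣ (q + 1) * (q - 1) :=
      orderOf_dvd_of_pow_eq_one (by rw [← hcard, Fintype.card_units]; exact FiniteField.pow_card_sub_one_eq_one b hb0)
    have hco : Nat.Coprime (r ^ (t + 1)) (q - 1) := Nat.Coprime.pow_left _ (hr.coprime_iff_not_dvd.2 fun hd' => by
      have := Nat.dvd_sub hc hd'
      rw [show q + 1 - (q - 1) = 2 by omega] at this
      exact h.ne_two ((Nat.prime_dvd_prime_iff_eq hr Nat.prime_two).1 this))
    exact pow_succ_padicValNat_not_dvd (p := r) (n := q + 1) (by omega)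
      (hco.dvd_of_dvd_mul_right (hord.trans hb1))
  have hirr : Irreducible (X ^ r - C z) := X_pow_sub_C_irreducible_of_prime hr hzroot
  have hm : (X ^ r - C z).Monic := monic_X_pow_sub_C z hr.ne_zero
  haveI := Fact.mk hirr
  haveI := finite_adjoinRoot _ hm
  set L := AdjoinRoot (X ^ r - C z)
  have hL : finrank F L = r := by
    rw [(AdjoinRoot.powerBasis' hm).finrank, AdjoinRoot.powerBasis'_dim, natDegree_X_pow_sub_C]
  have hθr : (AdjoinRoot.root (X ^ r - C z)) ^ r = algebraMap F L z := by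
    have := AdjoinRoot.mk_self (f := X ^ r - C z)
    rwa [map_sub, map_pow, AdjoinRoot.mk_X, AdjoinRoot.mk_C, sub_eq_zero, ← AdjoinRoot.algebraMap_eq] at this
  set θ := AdjoinRoot.root (X ^ r - C z)
  obtain ⟨BL, hBL, hPL⟩ := exists_field_form (L := L) h.invol h.card h.pow
    (by rw [hL]; exact hr.odd_of_ne_two h.ne_two)
  have hPθ : Pres BL (LinearMap.mulLeft F θ) := hPL θ (by
    obtain ⟨k, hk⟩ : r * r ^ t ∣ q ^ r + 1 := by
      -- lifting the exponent
      have hS : q ^ r + 1 = (q + 1) * (Finset.range r).sum (fun j => (-(q : ℤ)) ^ j) := by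
        have e := mul_geom_sum (-(q : ℤ)) r
        rw [(hr.odd_of_ne_two h.ne_two).neg_pow] at e
        push_cast
        linear_combination e
      have hdz : (r : ℤ) ∣ (Finset.range r).sum (fun j => (-(q : ℤ)) ^ j) := by
        rw [← ZMod.intCast_zmod_eq_zero_iff_dvd, Int.cast_sum]
        have h1 : (-(q : ZMod r)) = 1 := by
          have hc' : ((q + 1 : ℕ) : ZMod r) = 0 := (ZMod.natCast_eq_zero_iff _ _).2 hc
          push_cast at hc'
          linear_combination -hc'
        simp [h1]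
      obtain ⟨u, hu⟩ := hdz
      obtain ⟨v, hv'⟩ := hrt
      have h5 : ((r * r ^ t : ℕ) : ℤ) ∣ ((q ^ r + 1 : ℕ) : ℤ) := by
        refine ⟨v * u, ?_⟩
        have hv'' : ((q : ℤ) + 1) = (r : ℤ) ^ t * v := by exact_mod_cast hv'
        push_cast
        linear_combination hS + ((q : ℤ) + 1) * hu + (r : ℤ) * u * hv''
      exact Int.natCast_dvd_natCast.1 h5
    rw [hL, hk, mul_assoc, pow_mul, hθr, ← map_pow, hzpow _ (dvd_mul_right _ _), map_one])
  obtain ⟨N, hN⟩ : r ∣ n := (dvd_pow_self r t.succ_ne_zero).trans hnv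
  set a : Module.End F (Fin N → L) := LinearMap.pi fun l => (LinearMap.mulLeft F θ).comp (LinearMap.proj l) with ha
  have hP' : Pres (piB (Fin N) BL) a := pres_pi fun _ => hPθ
  have har : a ^ r = z • 1 := by
    rw [ha, pow_pi]
    exact LinearMap.ext fun x => funext fun l => by
      show (LinearMap.mulLeft F θ ^ r) (x l) = z • x l
      rw [LinearMap.pow_mulLeft, LinearMap.mulLeft_apply, hθr, Algebra.smul_def]
  have hd : finrank F (Fin N → L) = n := by
    rw [Module.finrank_pi_fintype]; simp [hL, hN, mul_comm]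
  have hdet : LinearMap.det a = 1 := by
    rw [ha, LinearMap.det_pi, Finset.prod_const, Finset.card_univ, Fintype.card_fin]
    have hnorm : LinearMap.det (LinearMap.mulLeft F θ) = z := by
      have e1 : LinearMap.det (LinearMap.mulLeft F θ) = Algebra.norm F θ := rfl
      have e2 := Algebra.PowerBasis.norm_gen_eq_coeff_zero_minpoly (AdjoinRoot.powerBasis' hm)
      rw [AdjoinRoot.powerBasis'_gen, AdjoinRoot.powerBasis'_dim, natDegree_X_pow_sub_C,
        AdjoinRoot.minpoly_root hm.ne_zero, hm.leadingCoeff, inv_one, map_one, mul_one, coeff_sub, coeff_X_pow,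
        if_neg hr.ne_zero.symm, coeff_C_zero, zero_sub, (hr.odd_of_ne_two h.ne_two).neg_one_pow, neg_one_mul,
        neg_neg] at e2
      rw [e1, e2]
    rw [hnorm]
    refine hzpow _ ?_
    obtain ⟨k, hk⟩ := hnv
    exact ⟨k, Nat.eq_of_mul_eq_mul_left hr.pos (by rw [← hN, hk]; ring)⟩
  have hns : ∀ c : F, a ≠ c • 1 := by
    intro c hc'
    have h1 := LinearMap.congr_fun hc' (fun _ => 1)
    have hN0 : 0 < N := Nat.pos_of_ne_zero fun h0 => by rw [h0, mul_zero] at hN; omega
    have h2 := congrFun h1 ⟨0, hN0⟩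
    simp [ha, Algebra.smul_def] at h2
    refine hzroot c ((algebraMap F L).injective ?_)
    rw [map_pow, ← hθr, h2]
  refine ⟨⟨_, _, a, z, isHerm_piB hBL, hP', hd, hdet, har, hns⟩, fun W hW => ?_⟩
  refine (blocks_in hW hirr.squarefree ?_ (i := r) ?_).1
  · rw [map_sub, map_pow, aeval_X, aeval_C, har, Module.algebraMap_end_eq_smul_id]
    exact sub_self _
  · intro f hf hfi hfd
    rw [eq_of_monic_of_associated hf hm (hfi.associated_of_dvd hirr hfd), natDegree_X_pow_sub_C]

end Cfsg.Agent.Classical.UnitElem
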